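import Groth.Agent.GLin.K798.Strong2

/-!
# The fundamental lemma: existence of strongly étale saturated neighbourhoods, from the finite case
-/

set_option autoImplicit false
set_option linter.unusedSectionVars false
set_option linter.style.haveILetI false

universe u v w w'

open TensorProduct HopfRep GLin

namespace K798.Strong

open Groth.Agent.Books Groth.Agent.Books.ComodBasic Groth.Agent.Books.ComodHom
open K765.Basic K765.Closed K765.SubAlg K798.Sep K798.EtIso K798.AwayIso K798.FinStr K798.ZMTpt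
open K701.Orbit3

section Alg

variable {S₀ S R₀ R : Type u} [CommRing S₀] [CommRing S] [CommRing R₀] [CommRing R]
  [Algebra S₀ S] [Algebra S R] [Algebra R₀ R] [Algebra S₀ R₀] [Algebra S₀ R]
  [IsScalarTower S₀ S R] [IsScalarTower S₀ R₀ R]

lemma exists_basicOpen_subset (h : R₀) [Algebra.Etale S₀ (Localization.Away h)]
    (q : Ideal R₀) [q.IsPrime] (hq : h ∉ q) :
    ∃ g : S₀, algebraMap S₀ R₀ g ∉ q ∧ ∀ p : Ideal S₀, p.IsPrime → g ∉ p →
      ∃ q' : Ideal R₀, q'.IsPrime ∧ h ∉ q' ∧ q'.comap (algebraMap S₀ R₀) = p := by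
  have hop : IsOpenMap (PrimeSpectrum.comap (algebraMap S₀ (Localization.Away h))) :=
    PrimeSpectrum.isOpenMap_comap_of_hasGoingDown_of_finitePresentation
  have h1 := hop.isOpen_range
  have h2 : (⟨q, inferInstance⟩ : PrimeSpectrum R₀) ∈
      Set.range (PrimeSpectrum.comap (algebraMap R₀ (Localization.Away h))) := by
    rw [PrimeSpectrum.localization_away_comap_range (Localization.Away h) h]
    exact hq
  obtain ⟨q', hq'⟩ := h2
  have h3 : (⟨q.comap (algebraMap S₀ R₀), inferInstance⟩ : PrimeSpectrum S₀) ∈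
      Set.range (PrimeSpectrum.comap (algebraMap S₀ (Localization.Away h))) := by
    refine ⟨q', ?_⟩
    rw [IsScalarTower.algebraMap_eq S₀ R₀ (Localization.Away h), PrimeSpectrum.comap_comp_apply,
      hq']
    rfl
  obtain ⟨_, ⟨_, ⟨g, rfl⟩, rfl⟩, hg, hgs⟩ :=
    PrimeSpectrum.isBasis_basic_opens.exists_subset_of_mem_open h3 h1
  refine ⟨g, hg, fun p hp hgp => ?_⟩
  obtain ⟨Q, hQ⟩ := hgs (show (⟨p, hp⟩ : PrimeSpectrum S₀) ∈ _ from hgp)
  have h4 : PrimeSpectrum.comap (algebraMap R₀ (Localization.Away h)) Q ∈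
      Set.range (PrimeSpectrum.comap (algebraMap R₀ (Localization.Away h))) := ⟨Q, rfl⟩
  rw [PrimeSpectrum.localization_away_comap_range (Localization.Away h) h] at h4
  refine ⟨Q.asIdeal.comap (algebraMap R₀ (Localization.Away h)), inferInstance, h4, ?_⟩
  rw [Ideal.comap_comap, ← IsScalarTower.algebraMap_eq]
  exact congrArg PrimeSpectrum.asIdeal hQ

end Alg

section

variable {k : Type u} {A : Type u} [Field k] [IsAlgClosed k] [CommRing A] [HopfAlgebra k A]
  [Algebra.FiniteType k A] [IsReduced A]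
variable {S : Type u} [CommRing S] [Algebra k S] [Comod k A S] [IsCoactAlg k A S]
  [Algebra.FiniteType k S]
variable {R : Type u} [CommRing R] [Algebra k R] [Comod k A R] [IsCoactAlg k A R]
  [Algebra.FiniteType k R]
variable [Algebra S R] [IsScalarTower k S R]
variable {S₀ : Type u} [CommRing S₀] [Algebra k S₀] [Algebra S₀ S] [IsScalarTower k S₀ S]
variable {R₀ : Type u} [CommRing R₀] [Algebra k R₀] [Algebra R₀ R] [IsScalarTower k R₀ R]
variable [Algebra S₀ R₀] [Algebra S₀ R] [IsScalarTower S₀ S R] [IsScalarTower S₀ R₀ R]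

/-- Strongly étale neighbourhoods, from the finite case. -/
theorem main (hG : IsLinearlyReductive k A)
    (he : IsEquiv A (IsScalarTower.toAlgHom k S R))
    (hS₀i : Function.Injective (algebraMap S₀ S))
    (hS₀ : (IsScalarTower.toAlgHom k S₀ S).range = invariants k A S)
    (hR₀i : Function.Injective (algebraMap R₀ R))
    (hR₀ : (IsScalarTower.toAlgHom k R₀ R).range = invariants k A R)
    (hF : FinCase k A S S₀)
    (x : R →ₐ[k] k) (m : Ideal R) [m.IsMaximal] (hm : m = RingHom.ker x.toRingHom)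
    (het : Algebra.IsEtaleAt S m)
    (hy : IsClosedOrbit k A (x.comp (IsScalarTower.toAlgHom k S R)))
    (hinj : ∀ g : A →ₐ[k] k, actPt k g (x.comp (IsScalarTower.toAlgHom k S R)) =
      x.comp (IsScalarTower.toAlgHom k S R) → actPt k g x = x) :
    ∃ (f : R₀) (g : S₀), x (algebraMap R₀ R (f * algebraMap S₀ R₀ g)) ≠ 0 ∧
      (∀ P : Ideal S, P.IsPrime → algebraMap S₀ S g ∉ P →
        ∃ Q : Ideal R, Q.IsPrime ∧ algebraMap R₀ R (f * algebraMap S₀ R₀ g) ∉ Q ∧
          Q.comap (algebraMap S R) = P) ∧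
      (∀ (Q : Ideal R) [Q.IsPrime], algebraMap R₀ R (f * algebraMap S₀ R₀ g) ∉ Q →
        Algebra.IsEtaleAt S Q) ∧
      (∀ x' : R →ₐ[k] k, x' (algebraMap R₀ R (f * algebraMap S₀ R₀ g)) ≠ 0 →
        GLin.IsClosedOrbit k A x' →
        GLin.IsClosedOrbit k A (x'.comp (IsScalarTower.toAlgHom k S R))) ∧
      (∀ (q : Ideal R₀) [q.IsPrime], f * algebraMap S₀ R₀ g ∉ q → Algebra.IsEtaleAt S₀ q) ∧
      (∀ z : S ⊗[S₀] R₀, Algebra.TensorProduct.productMap (IsScalarTower.toAlgHom S₀ S R)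
        (IsScalarTower.toAlgHom S₀ R₀ R) z = 0 →
        ∃ n : ℕ, ((1 : S) ⊗ₜ[S₀] (f * algebraMap S₀ R₀ g)) ^ n * z = 0) ∧
      (∀ r : R, ∃ (n : ℕ) (z : S ⊗[S₀] R₀),
        Algebra.TensorProduct.productMap (IsScalarTower.toAlgHom S₀ S R)
          (IsScalarTower.toAlgHom S₀ R₀ R) z =
          algebraMap R₀ R (f * algebraMap S₀ R₀ g) ^ n * r) := by
  obtain ⟨h, hxh, hEt, hker, hsur⟩ := exists_subalgebra hG he hS₀i hS₀ hR₀i hR₀ hF x m hm het hy hinj
  have hmem : ∀ b : R, b ∈ m ↔ x b = 0 := fun b => by rw [hm]; rfl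
  have hS₀m : ∀ s : S₀, algebraMap S₀ S s ∈ invariants k A S := fun s => by
    rw [← hS₀]
    exact ⟨s, rfl⟩
  have hR₀m : ∀ s : R₀, algebraMap R₀ R s ∈ invariants k A R := fun s => by
    rw [← hR₀]
    exact ⟨s, rfl⟩
  obtain ⟨g, hgq, hg⟩ := exists_basicOpen_subset (S₀ := S₀) h (m.comap (algebraMap R₀ R))
    (by rw [Ideal.mem_comap, hmem]; exact hxh)
  rw [Ideal.mem_comap, hmem] at hgq
  set φ := Algebra.TensorProduct.productMap (IsScalarTower.toAlgHom S₀ S R)
        (IsScalarTower.toAlgHom S₀ R₀ R) with hφ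
  have hφt : ∀ s r, φ (s ⊗ₜ r) = algebraMap S R s * algebraMap R₀ R r := fun s r => by
    rw [hφ, Algebra.TensorProduct.productMap_apply_tmul]
    rfl
  obtain ⟨F, hFdef⟩ : ∃ F : R₀, F = h * algebraMap S₀ R₀ g := ⟨_, rfl⟩
  have hφh : φ (1 ⊗ₜ h) = algebraMap R₀ R h := by rw [hφt, map_one, one_mul]
  have hφF : φ (1 ⊗ₜ F) = algebraMap R₀ R F := by rw [hφt, map_one, one_mul]
  have h1F : (1 : S) ⊗ₜ[S₀] F = (1 ⊗ₜ h) * (1 ⊗ₜ (algebraMap S₀ R₀ g)) := by
    rw [hFdef, Algebra.TensorProduct.tmul_mul_tmul, one_mul]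
  have hbh : Function.Bijective (Localization.awayMap φ.toRingHom ((1 : S) ⊗ₜ[S₀] h)) := by
    refine bijective_awayMap _ _ hker fun r => ?_
    obtain ⟨n, z, hz⟩ := hsur r
    exact ⟨n, z, by rw [← hφh] at hz; exact hz⟩
  have hbF : Function.Bijective (Localization.awayMap φ.toRingHom ((1 : S) ⊗ₜ[S₀] F)) :=
    Localization.awayMap_bijective_of_dvd _ (Dvd.intro _ h1F.symm) hbh
  have hFh : ∀ (q : Ideal R₀), F ∉ q → h ∉ q := fun q hq hh => hq (by
    rw [hFdef]
    exact q.mul_mem_right _ hh)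
  refine ⟨h, g, ?_⟩
  rw [← hFdef]
  refine ⟨?_, fun P hP hgP => ?_, fun Q hQ hFQ => ?_, fun x' hx'F hx' => ?_, fun q hq hFq => ?_,
    fun z hz => ?_, fun r => ?_⟩
  · rw [hFdef, map_mul, map_mul]
    exact mul_ne_zero hxh hgq
  · obtain ⟨q', hq'p, hhq', hq'⟩ := hg (P.comap (algebraMap S₀ S)) inferInstance hgP
    obtain ⟨T, hT1, hT2⟩ := K868.SchFin.exists_prime_tensorProduct (R := S₀)
      (⟨P, hP⟩ : PrimeSpectrum S) (⟨q', hq'p⟩ : PrimeSpectrum R₀)
      (PrimeSpectrum.ext hq'.symm)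
    have hgq' : algebraMap S₀ R₀ g ∉ q' := by
      intro hmem'
      apply hgP
      have : g ∈ q'.comap (algebraMap S₀ R₀) := hmem'
      rw [hq'] at this
      exact this
    have hFT : (1 : S) ⊗ₜ[S₀] F ∉ T.asIdeal := by
      intro hmem'
      have h5 : F ∈ (PrimeSpectrum.comap (Algebra.TensorProduct.includeRight (R := S₀)
        (A := S) (B := R₀)).toRingHom T).asIdeal := hmem'
      rw [hT2] at h5
      rw [hFdef] at h5
      exact (hq'p.mem_or_mem h5).elim hhq' hgq'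
    obtain ⟨Q, hQ, hFQ, hQT⟩ := exists_prime φ.toRingHom _ hbF T.asIdeal hFT
    refine ⟨Q, hQ, ?_, ?_⟩
    · have h6 : φ.toRingHom (1 ⊗ₜ F) = algebraMap R₀ R F := hφF
      rw [h6] at hFQ
      exact hFQ
    · have h7 : algebraMap S R = φ.toRingHom.comp
          (Algebra.TensorProduct.includeLeftRingHom : S →+* S ⊗[S₀] R₀) := by
        ext s
        change _ = φ (s ⊗ₜ 1)
        rw [hφt, map_one, mul_one]
      rw [h7, ← Ideal.comap_comap, hQT]
      exact congrArg PrimeSpectrum.asIdeal hT1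
  · let φS : S ⊗[S₀] R₀ →ₐ[S] R :=
      { φ.toRingHom with
        commutes' := fun s => by
          change φ (s ⊗ₜ 1) = _
          rw [hφt, map_one, mul_one] }
    have h8 : Algebra.FormallyEtale S (Localization.Away ((1 : S) ⊗ₜ[S₀] h)) :=
      Algebra.FormallyEtale.of_equiv
        (IsLocalization.Away.tensorProductEquivTMulRight S₀ (S := S) h (Localization.Away h))
    have h9 : Algebra.FormallyEtale S (Localization.Away (φS ((1 : S) ⊗ₜ[S₀] h))) :=
      (formallyEtale_away_iff φS _ hbh).1 h8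
    have h10 : (⟨Q, hQ⟩ : PrimeSpectrum R) ∈
        (PrimeSpectrum.basicOpen (φS ((1 : S) ⊗ₜ[S₀] h)) : Set (PrimeSpectrum R)) := by
      change φ ((1 : S) ⊗ₜ[S₀] h) ∉ Q
      rw [hφh]
      intro hmem'
      apply hFQ
      rw [hFdef, map_mul]
      exact Q.mul_mem_right _ hmem'
    exact Algebra.basicOpen_subset_etaleLocus_iff.2 h9 h10
  · exact closed_orbits he hS₀m hR₀m F hbF x' hx'F hx'
  · have h11 : (⟨q, hq⟩ : PrimeSpectrum R₀) ∈
        (PrimeSpectrum.basicOpen h : Set (PrimeSpectrum R₀)) := hFh q hFq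
    exact Algebra.basicOpen_subset_etaleLocus_iff.2 inferInstance h11
  · obtain ⟨n, hn⟩ := hker z hz
    refine ⟨n, ?_⟩
    rw [h1F, mul_pow, mul_right_comm, hn, zero_mul]
  · obtain ⟨n, z, hz⟩ := hsur r
    refine ⟨n, (1 ⊗ₜ (algebraMap S₀ R₀ g)) ^ n * z, ?_⟩
    rw [map_mul, hz, map_pow, hφt, map_one, one_mul, hFdef, map_mul, mul_pow]
    ring

end

end K798.Strong
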