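import Mathlib.RingTheory.Etale.Locus
import Mathlib.RingTheory.Localization.BaseChange

/-!
# Maps which become isomorphisms after inverting one element

For `φ : C → R` and `h ∈ C` such that the kernel and the cokernel are killed by powers of `h`:
* `bijective_awayMap`;
* `formallyEtale_away`: étaleness of the localizations;
* `exists_prime`: primes of `C` not containing `h` come from `R`.
-/

set_option autoImplicit false

open TensorProduct

namespace K798.AwayIso

section

variable {C R : Type*} [CommRing C] [CommRing R] (φ : C →+* R) (h : C)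

lemma bijective_awayMap (hi : ∀ c : C, φ c = 0 → ∃ n : ℕ, h ^ n * c = 0)
    (hs : ∀ r : R, ∃ (n : ℕ) (c : C), φ c = φ h ^ n * r) :
    Function.Bijective (Localization.awayMap φ h) := by
  constructor
  · rw [injective_iff_map_eq_zero]
    intro x hx
    obtain ⟨c, ⟨_, n, rfl⟩, rfl⟩ := IsLocalization.exists_mk'_eq (.powers h) x
    simp only [Localization.awayMap, IsLocalization.Away.map, IsLocalization.map_mk',
      IsLocalization.mk'_eq_zero_iff] at hx
    obtain ⟨⟨_, l, rfl⟩, hl⟩ := hx
    obtain ⟨j, hj⟩ := hi (h ^ l * c) (by rw [map_mul, map_pow]; exact hl)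
    refine (IsLocalization.mk'_eq_zero_iff _ _).mpr ⟨⟨_, j + l, rfl⟩, ?_⟩
    change h ^ (j + l) * c = 0
    rw [pow_add, mul_assoc, hj]
  · rw [Localization.awayMap_surjective_iff]
    intro r
    obtain ⟨n, c, hc⟩ := hs r
    exact ⟨c, n, hc⟩

/-- Primes of `C` not containing `h` come from `R`. -/
lemma exists_prime (hb : Function.Bijective (Localization.awayMap φ h)) (P : Ideal C)
    [hP : P.IsPrime] (hhP : h ∉ P) : ∃ Q : Ideal R, Q.IsPrime ∧ φ h ∉ Q ∧ Q.comap φ = P := by
  have h1 : (⟨P, hP⟩ : PrimeSpectrum C) ∈
      Set.range (PrimeSpectrum.comap (algebraMap C (Localization.Away h))) := by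
    rw [PrimeSpectrum.localization_away_comap_range (Localization.Away h) h]
    exact hhP
  obtain ⟨P', hP'⟩ := h1
  let e := RingEquiv.ofBijective _ hb
  have h2 : (Localization.awayMap φ h).comp (algebraMap C (Localization.Away h)) =
      (algebraMap R (Localization.Away (φ h))).comp φ := by
    ext c
    simp [Localization.awayMap, IsLocalization.Away.map]
  let Q'' : Ideal (Localization.Away (φ h)) := P'.asIdeal.comap e.symm.toRingHom
  have hQ'' : Q''.IsPrime := Ideal.comap_isPrime _ _
  refine ⟨Q''.comap (algebraMap R (Localization.Away (φ h))), Ideal.comap_isPrime _ _, ?_, ?_⟩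
  · intro hmem
    rw [Ideal.mem_comap] at hmem
    have hu : IsUnit (algebraMap R (Localization.Away (φ h)) (φ h)) :=
      IsLocalization.map_units _ (⟨φ h, 1, pow_one _⟩ : Submonoid.powers (φ h))
    exact hQ''.ne_top (Ideal.eq_top_of_isUnit_mem _ hmem hu)
  · rw [Ideal.comap_comap, ← h2, ← Ideal.comap_comap]
    have h3 : Q''.comap (Localization.awayMap φ h) = P'.asIdeal := by
      rw [Ideal.comap_comap]
      have : e.symm.toRingHom.comp (Localization.awayMap φ h) = RingHom.id _ := by
        ext c
        exact e.symm_apply_apply _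
      rw [this, Ideal.comap_id]
    rw [h3]
    exact congrArg PrimeSpectrum.asIdeal hP'

/-- Extension of maps out of `C` which invert `h`. -/
lemma exists_extension (hb : Function.Bijective (Localization.awayMap φ h)) {K : Type*}
    [CommRing K] (z : C →+* K) (hz : IsUnit (z h)) : ∃ x : R →+* K, ∀ c, x (φ c) = z c := by
  let e := RingEquiv.ofBijective _ hb
  let z' : Localization.Away h →+* K := IsLocalization.Away.lift h hz
  refine ⟨(z'.comp e.symm.toRingHom).comp (algebraMap R (Localization.Away (φ h))), fun c => ?_⟩
  have h2 : algebraMap R (Localization.Away (φ h)) (φ c) =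
      e (algebraMap C (Localization.Away h) c) := by
    change _ = Localization.awayMap φ h (algebraMap C (Localization.Away h) c)
    simp [Localization.awayMap, IsLocalization.Away.map]
  rw [RingHom.comp_apply, h2, RingHom.comp_apply]
  change z' (e.symm (e _)) = _
  rw [e.symm_apply_apply]
  exact IsLocalization.Away.lift_eq h hz c

end

section

variable {S C R : Type*} [CommRing S] [CommRing C] [CommRing R] [Algebra S C] [Algebra S R]
  (φ : C →ₐ[S] R) (h : C)

lemma formallyEtale_away_iff (hb : Function.Bijective (Localization.awayMap φ.toRingHom h)) :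
    Algebra.FormallyEtale S (Localization.Away h) ↔
      Algebra.FormallyEtale S (Localization.Away (φ h)) :=
  Algebra.FormallyEtale.iff_of_equiv (AlgEquiv.ofBijective (Localization.awayMapₐ φ h) hb)

lemma etale_away (hb : Function.Bijective (Localization.awayMap φ.toRingHom h))
    (h1 : Algebra.Etale S (Localization.Away h)) :
    Algebra.Etale S (Localization.Away (φ h)) :=
  Algebra.Etale.of_equiv (AlgEquiv.ofBijective (Localization.awayMapₐ φ h) hb)

end

end K798.AwayIso
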