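import Groth.Agent.GLin.K798.Sep
import Groth.Agent.GLin.K765.Rey

/-!
# Base change of a comodule algebra along a map out of the invariants

For `S₀ → S` with image in the invariants and an `S₀`-algebra `T`: the comodule algebra `S ⊗[S₀] T` with the
coaction of `S`, and its invariants.
-/

set_option autoImplicit false

set_option linter.unusedSectionVars false
set_option linter.style.haveILetI false

universe u v w w' w''

open TensorProduct HopfRep GLin

namespace K798.BcInv

open Groth.Agent.Books.ComodBasic Groth.Agent.Books.ComodHom Groth.Agent.Books.ComodInv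
open Groth.Agent.Books K765.Basic

variable {k : Type u} {A : Type v} [Field k] [CommRing A] [Bialgebra k A]
variable {S : Type w} [CommRing S] [Algebra k S] [Comod k A S] [IsCoactAlg k A S]
variable {S₀ : Type w'} [CommRing S₀] [Algebra k S₀] [Algebra S₀ S] [IsScalarTower k S₀ S]
variable {T : Type w''} [CommRing T] [Algebra k T] [Algebra S₀ T] [IsScalarTower k S₀ T]

/-- The map `S → (S ⊗ T) ⊗ A`. -/
noncomputable def bcLeft (h : ∀ s : S₀, algebraMap S₀ S s ∈ invariants k A S) :
    S →ₐ[S₀] (S ⊗[S₀] T) ⊗[k] A :=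
  { (Algebra.TensorProduct.map ((Algebra.TensorProduct.includeLeft :
      S →ₐ[S₀] S ⊗[S₀] T).restrictScalars k) (AlgHom.id k A)).comp (coactAlgHom k A S) with
    commutes' := fun s => by
      have h1 : Comod.coact (k := k) (A := A) (algebraMap S₀ S s) = algebraMap S₀ S s ⊗ₜ[k] 1 :=
        (mem_invariants_iff k A S _).1 (h s)
      change Algebra.TensorProduct.map _ _ (Comod.coact (k := k) (A := A) (algebraMap S₀ S s)) = _
      rw [h1]
      rfl }

lemma bcLeft_apply (h : ∀ s : S₀, algebraMap S₀ S s ∈ invariants k A S) (s : S) :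
    bcLeft (T := T) h s = Algebra.TensorProduct.map ((Algebra.TensorProduct.includeLeft :
      S →ₐ[S₀] S ⊗[S₀] T).restrictScalars k) (AlgHom.id k A)
        (Comod.coact (k := k) (A := A) s) := rfl

/-- The coaction on `S ⊗ T`, as an algebra map over `S₀`. -/
noncomputable def bcHom₀ (h : ∀ s : S₀, algebraMap S₀ S s ∈ invariants k A S) :
    S ⊗[S₀] T →ₐ[S₀] (S ⊗[S₀] T) ⊗[k] A :=
  Algebra.TensorProduct.lift (bcLeft (T := T) h)
    ((Algebra.TensorProduct.includeLeft : S ⊗[S₀] T →ₐ[S₀] (S ⊗[S₀] T) ⊗[k] A).comp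
      (Algebra.TensorProduct.includeRight : T →ₐ[S₀] S ⊗[S₀] T))
    (fun _ _ => Commute.all _ _)

lemma bcHom₀_tmul (h : ∀ s : S₀, algebraMap S₀ S s ∈ invariants k A S) (s : S) (t : T) :
    bcHom₀ h (s ⊗ₜ[S₀] t) = bcLeft (T := T) h s * ((1 ⊗ₜ[S₀] t) ⊗ₜ[k] 1) := by
  rw [bcHom₀, Algebra.TensorProduct.lift_tmul]
  rfl

/-- The coaction on `S ⊗ T`, as an algebra map. -/
noncomputable def bcHom (h : ∀ s : S₀, algebraMap S₀ S s ∈ invariants k A S) :
    S ⊗[S₀] T →ₐ[k] (S ⊗[S₀] T) ⊗[k] A :=
  (bcHom₀ h).restrictScalars k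

lemma bcHom_tmul (h : ∀ s : S₀, algebraMap S₀ S s ∈ invariants k A S) (s : S) (t : T) :
    bcHom h (s ⊗ₜ[S₀] t) = bcLeft (T := T) h s * ((1 ⊗ₜ[S₀] t) ⊗ₜ[k] 1) :=
  bcHom₀_tmul h s t

lemma bcHom_one_tmul (h : ∀ s : S₀, algebraMap S₀ S s ∈ invariants k A S) (t : T) :
    bcHom h ((1 : S) ⊗ₜ[S₀] t) = ((1 ⊗ₜ[S₀] t) ⊗ₜ[k] 1) := by
  rw [bcHom_tmul, map_one, one_mul]

lemma bcHom_tmul_one (h : ∀ s : S₀, algebraMap S₀ S s ∈ invariants k A S) (s : S) :
    bcHom h (s ⊗ₜ[S₀] (1 : T)) = bcLeft (T := T) h s := by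
  rw [bcHom_tmul, ← Algebra.TensorProduct.one_def, ← Algebra.TensorProduct.one_def, mul_one]

lemma algHom_ext' {X : Type*} [Semiring X] [Algebra k X] {f g : S ⊗[S₀] T →ₐ[k] X}
    (hS : ∀ s : S, f (s ⊗ₜ 1) = g (s ⊗ₜ 1)) (hT : ∀ t : T, f (1 ⊗ₜ t) = g (1 ⊗ₜ t)) : f = g := by
  apply AlgHom.ext
  intro c
  induction c with
  | zero => rw [map_zero, map_zero]
  | add x y hx hy => rw [map_add, map_add, hx, hy]
  | tmul s t =>
    have : s ⊗ₜ[S₀] t = (s ⊗ₜ[S₀] (1 : T)) * ((1 : S) ⊗ₜ[S₀] t) := by
      rw [Algebra.TensorProduct.tmul_mul_tmul, one_mul, mul_one]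
    rw [this, map_mul, map_mul, hS, hT]

lemma bc_coassoc (h : ∀ s : S₀, algebraMap S₀ S s ∈ invariants k A S) :
    ((Algebra.TensorProduct.assoc k k k (S ⊗[S₀] T) A A).toAlgHom.comp
      ((Algebra.TensorProduct.map (bcHom h) (AlgHom.id k A)).comp (bcHom h))) =
      (Algebra.TensorProduct.map (AlgHom.id k (S ⊗[S₀] T)) (Bialgebra.comulAlgHom k A)).comp
        (bcHom h) := by
  apply algHom_ext'
  · intro s
    simp only [AlgHom.comp_apply]
    rw [bcHom_tmul_one, bcLeft_apply]
    have h1 : ∀ z : S ⊗[k] A, (Algebra.TensorProduct.map (bcHom (T := T) h) (AlgHom.id k A))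
        (Algebra.TensorProduct.map ((Algebra.TensorProduct.includeLeft :
          S →ₐ[S₀] S ⊗[S₀] T).restrictScalars k) (AlgHom.id k A) z) =
        Algebra.TensorProduct.map (Algebra.TensorProduct.map
          ((Algebra.TensorProduct.includeLeft : S →ₐ[S₀] S ⊗[S₀] T).restrictScalars k)
            (AlgHom.id k A)) (AlgHom.id k A)
          ((Comod.coact (k := k) (A := A) (V := S)).rTensor A z) := by
      intro z
      induction z with
      | zero => simp
      | add x y hx hy => simp only [map_add, hx, hy]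
      | tmul s a =>
        rw [Algebra.TensorProduct.map_tmul, Algebra.TensorProduct.map_tmul,
          LinearMap.rTensor_tmul, Algebra.TensorProduct.map_tmul]
        change bcHom h (s ⊗ₜ 1) ⊗ₜ a = _
        rw [bcHom_tmul_one]
        rfl
    have h2 : ∀ z : (S ⊗[k] A) ⊗[k] A, (Algebra.TensorProduct.assoc k k k (S ⊗[S₀] T) A A).toAlgHom
        (Algebra.TensorProduct.map (Algebra.TensorProduct.map
          ((Algebra.TensorProduct.includeLeft : S →ₐ[S₀] S ⊗[S₀] T).restrictScalars k)
            (AlgHom.id k A)) (AlgHom.id k A) z) =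
        (Algebra.TensorProduct.map
          ((Algebra.TensorProduct.includeLeft : S →ₐ[S₀] S ⊗[S₀] T).restrictScalars k)
            (AlgHom.id k (A ⊗[k] A))) (TensorProduct.assoc k S A A z) := by
      intro z
      induction z with
      | zero => simp
      | add x y hx hy => simp only [map_add, hx, hy]
      | tmul z a =>
        induction z with
        | zero => simp
        | add x y hx hy => simp only [map_add, add_tmul, hx, hy]
        | tmul s b => rfl
    have h3 : ∀ z : S ⊗[k] A, (Algebra.TensorProduct.map (AlgHom.id k (S ⊗[S₀] T))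
          (Bialgebra.comulAlgHom k A))
        (Algebra.TensorProduct.map ((Algebra.TensorProduct.includeLeft :
          S →ₐ[S₀] S ⊗[S₀] T).restrictScalars k) (AlgHom.id k A) z) =
        (Algebra.TensorProduct.map
          ((Algebra.TensorProduct.includeLeft : S →ₐ[S₀] S ⊗[S₀] T).restrictScalars k)
            (AlgHom.id k (A ⊗[k] A)))
          ((CoalgebraStruct.comul (R := k) (A := A)).lTensor S z) := by
      intro z
      induction z with
      | zero => simp
      | add x y hx hy => simp only [map_add, hx, hy]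
      | tmul s a => rfl
    rw [h1, h2, h3]
    have := LinearMap.congr_fun (Comod.coassoc (k := k) (A := A) (V := S)) s
    simp only [LinearMap.comp_apply, LinearEquiv.coe_coe] at this
    rw [this]
  · intro t
    simp only [AlgHom.comp_apply]
    rw [bcHom_one_tmul, Algebra.TensorProduct.map_tmul, bcHom_one_tmul,
      Algebra.TensorProduct.map_tmul]
    simp only [AlgHom.coe_id, id_eq, map_one]
    rfl

lemma bc_counit (h : ∀ s : S₀, algebraMap S₀ S s ∈ invariants k A S) :
    ((Algebra.TensorProduct.map (AlgHom.id k (S ⊗[S₀] T)) (Bialgebra.counitAlgHom k A)).comp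
        (bcHom h)) = (Algebra.TensorProduct.includeLeft : S ⊗[S₀] T →ₐ[k] (S ⊗[S₀] T) ⊗[k] k) := by
  apply algHom_ext'
  · intro s
    rw [AlgHom.comp_apply, bcHom_tmul_one, bcLeft_apply]
    have h3 : ∀ z : S ⊗[k] A, (Algebra.TensorProduct.map (AlgHom.id k (S ⊗[S₀] T))
          (Bialgebra.counitAlgHom k A))
        (Algebra.TensorProduct.map ((Algebra.TensorProduct.includeLeft :
          S →ₐ[S₀] S ⊗[S₀] T).restrictScalars k) (AlgHom.id k A) z) =
        (Algebra.TensorProduct.map
          ((Algebra.TensorProduct.includeLeft : S →ₐ[S₀] S ⊗[S₀] T).restrictScalars k)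
            (AlgHom.id k k))
          ((CoalgebraStruct.counit (R := k) (A := A)).lTensor S z) := by
      intro z
      induction z with
      | zero => simp
      | add x y hx hy => simp only [map_add, hx, hy]
      | tmul s a => rfl
    have := LinearMap.congr_fun (Comod.counit_comp (k := k) (A := A) (V := S)) s
    simp only [LinearMap.comp_apply] at this
    rw [h3, this]
    rfl
  · intro t
    rw [AlgHom.comp_apply, bcHom_one_tmul, Algebra.TensorProduct.map_tmul, map_one]
    rfl

/-- The comodule structure on `S ⊗[S₀] T`. -/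
@[reducible] noncomputable def bcComod (h : ∀ s : S₀, algebraMap S₀ S s ∈ invariants k A S) :
    Comod k A (S ⊗[S₀] T) where
  coact := (bcHom h).toLinearMap
  coassoc := by
    ext c
    exact DFunLike.congr_fun (bc_coassoc (k := k) (A := A) (S := S) (S₀ := S₀) (T := T) h) c
  counit_comp := by
    ext c
    exact DFunLike.congr_fun (bc_counit (k := k) (A := A) (S := S) (S₀ := S₀) (T := T) h) c

lemma bc_isCoactAlg (h : ∀ s : S₀, algebraMap S₀ S s ∈ invariants k A S) :
    letI := bcComod (T := T) h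
    IsCoactAlg k A (S ⊗[S₀] T) := by
  letI := bcComod (T := T) h
  exact ⟨map_one (bcHom h), map_mul (bcHom h)⟩

lemma bc_isEquiv_left (h : ∀ s : S₀, algebraMap S₀ S s ∈ invariants k A S) :
    letI := bcComod (T := T) h
    IsEquiv A ((Algebra.TensorProduct.includeLeft : S →ₐ[S₀] S ⊗[S₀] T).restrictScalars k) := by
  letI := bcComod (T := T) h
  intro s
  exact bcHom_tmul_one h s

lemma bc_one_tmul_mem (h : ∀ s : S₀, algebraMap S₀ S s ∈ invariants k A S) (t : T) :
    letI := bcComod (T := T) h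
    haveI := bc_isCoactAlg (T := T) h
    (1 : S) ⊗ₜ[S₀] t ∈ invariants k A (S ⊗[S₀] T) := by
  letI := bcComod (T := T) h
  exact bcHom_one_tmul h t

/-- An algebra map out of `S ⊗ T` is equivariant when its restriction to `S` is and `T` is sent to
invariants. -/
lemma bc_isEquiv_lift (h : ∀ s : S₀, algebraMap S₀ S s ∈ invariants k A S)
    {R : Type*} [CommRing R] [Algebra k R] [Comod k A R] [IsCoactAlg k A R]
    (φ : S ⊗[S₀] T →ₐ[k] R)
    (hS : IsEquiv A (φ.comp
      ((Algebra.TensorProduct.includeLeft : S →ₐ[S₀] S ⊗[S₀] T).restrictScalars k)))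
    (hT : ∀ t : T, φ ((1 : S) ⊗ₜ[S₀] t) ∈ invariants k A R) :
    letI := bcComod (T := T) h
    IsEquiv A φ := by
  letI := bcComod (T := T) h
  have key : (coactAlgHom k A R).comp φ =
      (Algebra.TensorProduct.map φ (AlgHom.id k A)).comp (bcHom h) := by
    apply algHom_ext'
    · intro s
      rw [AlgHom.comp_apply, AlgHom.comp_apply, bcHom_tmul_one, bcLeft_apply]
      have h1 := hS s
      rw [AlgHom.comp_apply] at h1
      refine h1.trans ?_
      rw [← AlgHom.comp_apply (Algebra.TensorProduct.map φ (AlgHom.id k A)),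
        ← Algebra.TensorProduct.map_comp, AlgHom.id_comp]
    · intro t
      rw [AlgHom.comp_apply, AlgHom.comp_apply, bcHom_one_tmul, Algebra.TensorProduct.map_tmul,
        map_one]
      exact (mem_invariants_iff k A R _).1 (hT t)
  intro c
  exact DFunLike.congr_fun key c

end K798.BcInv

namespace K798.BcInv

open Groth.Agent.Books.ComodBasic Groth.Agent.Books.ComodHom Groth.Agent.Books.ComodInv
open Groth.Agent.Books K765.Basic

variable {k : Type u} {A : Type u} [Field k] [CommRing A] [Bialgebra k A]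
variable {S : Type u} [CommRing S] [Algebra k S] [Comod k A S] [IsCoactAlg k A S]
variable {S₀ : Type u} [CommRing S₀] [Algebra k S₀] [Algebra S₀ S] [IsScalarTower k S₀ S]
variable {T : Type u} [CommRing T] [Algebra k T] [Algebra S₀ T] [IsScalarTower k S₀ T]

/-- The invariants of `S ⊗[S₀] T` when `S₀` surjects onto the invariants of `S`. -/
theorem bc_exists_of_mem_invariants (hG : IsLinearlyReductive k A)
    (h : ∀ s : S₀, algebraMap S₀ S s ∈ invariants k A S)
    (h' : ∀ s ∈ invariants k A S, ∃ s₀ : S₀, algebraMap S₀ S s₀ = s)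
    (c : S ⊗[S₀] T)
    (hc : c ∈ @invariants k _ A _ _ (S ⊗[S₀] T) _ _ (bcComod h) (bc_isCoactAlg h)) :
    ∃ t : T, c = (1 : S) ⊗ₜ[S₀] t := by
  letI := bcComod (T := T) h
  haveI := bc_isCoactAlg (T := T) h
  have key : ∀ c : S ⊗[S₀] T, ∃ t : T, K765.Rey.rey hG (S ⊗[S₀] T) c = (1 : S) ⊗ₜ[S₀] t := by
    intro c
    induction c with
    | zero => exact ⟨0, by simp⟩
    | add x y hx hy =>
      obtain ⟨t, ht⟩ := hx
      obtain ⟨t', ht'⟩ := hy
      exact ⟨t + t', by rw [map_add, ht, ht', tmul_add]⟩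
    | tmul s t =>
      have h1 : s ⊗ₜ[S₀] t = (((Algebra.TensorProduct.includeLeft :
          S →ₐ[S₀] S ⊗[S₀] T).restrictScalars k) s) * ((1 : S) ⊗ₜ[S₀] t) := by
        change _ = (s ⊗ₜ[S₀] (1 : T)) * _
        rw [Algebra.TensorProduct.tmul_mul_tmul, one_mul, mul_one]
      rw [h1, K765.Rey.rey_mul hG _ (bc_one_tmul_mem h t),
        ← K765.Rey.map_rey_alg hG (bc_isEquiv_left (T := T) h)]
      obtain ⟨s₀, hs₀⟩ := h' _ (K765.Rey.rey_mem_invariants hG s)
      refine ⟨s₀ • t, ?_⟩
      rw [← hs₀]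
      change (algebraMap S₀ S s₀ ⊗ₜ[S₀] (1 : T)) * _ = _
      rw [Algebra.TensorProduct.tmul_mul_tmul, one_mul, mul_one, Algebra.algebraMap_eq_smul_one,
        smul_tmul]
  obtain ⟨t, ht⟩ := key c
  exact ⟨t, by rw [← ht, K765.Rey.rey_of_mem_invariants hG hc]⟩

end K798.BcInv
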