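import Mathlib.RingTheory.Etale.Locus
import Mathlib.RingTheory.Unramified.LocalRing
import Mathlib.RingTheory.Smooth.Flat
import Mathlib.RingTheory.Flat.EquationalCriterion
import Mathlib.RingTheory.Nakayama
import Mathlib.RingTheory.Jacobson.Ring
import Groth.Agent.Books.PointsAC

/-!
# Commutative algebra of étale points

* `isEtaleAt_tensor`: base change of an étale locus;
* `exists_mul_eq_zero`: a map étale at a point is injective near the point;
* `exists_smul_mem_range`: a finite map unramified at the only point of a fibre, with trivial residue extension,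
  is surjective near the point.
-/

set_option autoImplicit false

universe u v w

open TensorProduct

namespace K798.EtIso

section

variable {S₀ S T : Type*} [CommRing S₀] [CommRing S] [CommRing T] [Algebra S₀ S] [Algebra S₀ T]

/-- Base change of the étale locus. -/
lemma isEtaleAt_tensor (e : T) [Algebra.FormallyEtale S₀ (Localization.Away e)]
    (q : Ideal (S ⊗[S₀] T)) [hq : q.IsPrime] (he : (1 : S) ⊗ₜ[S₀] e ∉ q) :
    Algebra.IsEtaleAt S q := by
  have h1 : Algebra.FormallyEtale S (Localization.Away ((1 : S) ⊗ₜ[S₀] e)) :=
    Algebra.FormallyEtale.of_equiv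
      (IsLocalization.Away.tensorProductEquivTMulRight S₀ (S := S) e (Localization.Away e))
  have h2 := Algebra.basicOpen_subset_etaleLocus_iff.2 h1
  exact h2 (show (⟨q, hq⟩ : PrimeSpectrum (S ⊗[S₀] T)) ∈ _ from he)

end

section

variable {C B : Type*} [CommRing C] [CommRing B] [Algebra C B]

/-- A map étale at `m` is injective near `m`. -/
theorem exists_mul_eq_zero [Algebra.FinitePresentation C B] (m : Ideal B) [m.IsPrime]
    [Algebra.IsEtaleAt C m] {c : C} (hc : algebraMap C B c = 0) :
    ∃ u : C, algebraMap C B u ∉ m ∧ u * c = 0 := by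
  obtain ⟨f, hf, hE⟩ := Algebra.exists_etale_of_isEtaleAt (R := C) m
  have hflat : Module.Flat C (Localization.Away f) := inferInstance
  have h0 : c • (1 : Localization.Away f) = 0 := by
    rw [Algebra.smul_def, mul_one, IsScalarTower.algebraMap_apply C B, hc, map_zero]
  have h1 := Module.Flat.isTrivialRelation_of_sum_smul_eq_zero (R := C) (M := Localization.Away f)
    (f := fun _ : Fin 1 => c) (x := fun _ => 1) (by simpa using h0)
  obtain ⟨κ, a, y, h2, h3⟩ := h1
  by_contra hcon
  push Not at hcon
  -- all `a 0 j` lie in the contraction of `m`, so `1 ∈ m B_f`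
  have h4 : ∀ j, algebraMap C B (a 0 j) ∈ m := by
    intro j
    by_contra hj
    refine hcon _ hj ?_
    have := h3 j
    simpa [mul_comm] using this
  have hp : (m.map (algebraMap B (Localization.Away f))).IsPrime := by
    refine IsLocalization.isPrime_of_isPrime_disjoint (Submonoid.powers f) _ m inferInstance ?_
    rw [Ideal.disjoint_powers_iff_notMem f (Ideal.IsPrime.isRadical inferInstance)]
    exact hf
  apply hp.ne_top
  rw [Ideal.eq_top_iff_one]
  have h5 : (1 : Localization.Away f) = ∑ j, a 0 j • y j := h2 0
  rw [h5]
  refine Ideal.sum_mem _ fun j _ => ?_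
  rw [Algebra.smul_def, IsScalarTower.algebraMap_apply C B]
  exact Ideal.mul_mem_right _ _ (Ideal.mem_map_of_mem _ (h4 j))

end

section Points

variable {k : Type u} [Field k] [IsAlgClosed k]
variable {C B : Type u} [CommRing C] [CommRing B] [Algebra C B] [Algebra k C] [Algebra k B]
  [IsScalarTower k C B] [Algebra.FiniteType k B]

/-- If `B` is finite over `C`, unramified at the point `x`, the only point of its fibre, then
`C → B` is surjective near `x`. -/
theorem exists_smul_mem_range [Module.Finite C B] (x : B →ₐ[k] k) (m : Ideal B) [m.IsMaximal]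
    (hm : m = RingHom.ker x.toRingHom) [Algebra.IsUnramifiedAt C m]
    (huniq : ∀ x' : B →ₐ[k] k, (∀ c : C, x' (algebraMap C B c) = x (algebraMap C B c)) → x' = x) :
    ∃ u : C, x (algebraMap C B u) = 1 ∧ ∀ b : B, u • b ∈ (algebraMap C B).range := by
  set p : Ideal C := m.comap (algebraMap C B) with hp
  have hmem : ∀ b : B, b ∈ m ↔ x b = 0 := fun b => by rw [hm]; rfl
  have hlo : m.LiesOver p := ⟨hp⟩
  let := Localization.AtPrime.algebraOfLiesOver p m
  have h1 : p.map (algebraMap C (Localization.AtPrime m)) =
      IsLocalRing.maximalIdeal (Localization.AtPrime m) :=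
    ((Algebra.isUnramifiedAt_iff_map_eq C p m).1 inferInstance).2
  have h2 : m ≤ p.map (algebraMap C B) := by
    intro b hb
    have h3 : algebraMap B (Localization.AtPrime m) b ∈
        (p.map (algebraMap C B)).map (algebraMap B (Localization.AtPrime m)) := by
      rw [Ideal.map_map, ← IsScalarTower.algebraMap_eq, h1]
      exact (IsLocalization.AtPrime.to_map_mem_maximal_iff _ m b).2 hb
    rw [IsLocalization.algebraMap_mem_map_algebraMap_iff m.primeCompl] at h3
    obtain ⟨v, hv, hvb⟩ := h3
    by_contra hcon
    have h4 : (p.map (algebraMap C B)).colon {b} ≠ ⊤ := by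
      intro h
      apply hcon
      have := (Ideal.eq_top_iff_one _).1 h
      rw [Submodule.mem_colon_singleton] at this
      simpa using this
    obtain ⟨M, hM, hle⟩ := Ideal.exists_le_maximal _ h4
    obtain ⟨x', hx'⟩ := Groth.Agent.Books.PointsAC.exists_point_of_isMaximal k B M
    have h5 : x' = x := by
      refine huniq x' fun c => ?_
      have h6 : algebraMap C B c - algebraMap k B (x (algebraMap C B c)) ∈
          p.map (algebraMap C B) := by
        have h7 : c - algebraMap k C (x (algebraMap C B c)) ∈ p := by
          rw [hp, Ideal.mem_comap, hmem, map_sub, map_sub, ← IsScalarTower.algebraMap_apply,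
            AlgHom.commutes]
          simp
        have := Ideal.mem_map_of_mem (algebraMap C B) h7
        rwa [map_sub, ← IsScalarTower.algebraMap_apply] at this
      have h8 : algebraMap C B c - algebraMap k B (x (algebraMap C B c)) ∈ M := by
        refine hle ?_
        rw [Submodule.mem_colon_singleton]
        exact Ideal.mul_mem_right _ _ h6
      rw [← hx'] at h8
      have h9 : x' (algebraMap C B c - algebraMap k B (x (algebraMap C B c))) = 0 := h8
      rw [map_sub, AlgHom.commutes, sub_eq_zero] at h9
      exact h9
    have hvM : v ∈ M := by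
      refine hle ?_
      rw [Submodule.mem_colon_singleton]
      exact hvb
    rw [← hx', h5] at hvM
    exact hv ((hmem v).2 hvM)
  have h3 : (⊤ : Submodule C B) ≤ LinearMap.range (Algebra.linearMap C B) ⊔ p • ⊤ := by
    intro b _
    have h4 : b - algebraMap k B (x b) ∈ p.map (algebraMap C B) := by
      refine h2 ?_
      rw [hmem, map_sub, AlgHom.commutes]
      simp
    have h5 : b = algebraMap k B (x b) + (b - algebraMap k B (x b)) := by ring
    rw [h5]
    refine Submodule.add_mem_sup ⟨algebraMap k C (x b), ?_⟩ ?_
    · rw [Algebra.linearMap_apply, ← IsScalarTower.algebraMap_apply]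
    · rw [Ideal.smul_top_eq_map]
      exact h4
  obtain ⟨r, hr, hr'⟩ := Submodule.exists_sub_one_mem_and_smul_le_of_fg_of_le_sup (R := C)
    (M := B) (I := p) Module.Finite.fg_top le_rfl h3
  refine ⟨r, ?_, fun b => ?_⟩
  · rw [hp, Ideal.mem_comap, hmem, map_sub, map_sub, map_one, map_one, sub_eq_zero] at hr
    exact hr
  · have := hr' (Submodule.smul_mem_pointwise_smul b r ⊤ trivial)
    obtain ⟨c, hc⟩ := this
    exact ⟨c, hc⟩

end Points

end K798.EtIso
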