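import Groth.Agent.GLin.K798.BcInv
import Groth.Agent.GLin.K798.EtIso

/-!
# The structure of a finite equivariant map near a closed orbit at which it is étale

`finite_structure`: `S → B` finite and equivariant, `x` a point of `B` with closed orbit, `B` étale over `S` at
`x`, stabiliser condition, `T = B^G` étale over `S₀ = S^G` under `x`; then `S ⊗[S₀] T → B` is an isomorphism after
inverting an element of `T` not vanishing at `x`.
-/

set_option autoImplicit false
set_option linter.unusedSectionVars false
set_option linter.style.haveILetI false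

universe u v w w'

open TensorProduct HopfRep GLin

namespace K798.FinStr

open Groth.Agent.Books Groth.Agent.Books.ComodBasic Groth.Agent.Books.ComodHom
open K765.Basic K765.Closed K764.HopfMod K764.Reductive K798.Sep K798.BcInv K798.EtIso TameAct

/-- An equivariant algebra map makes the target a relative Hopf module. -/
lemma isHopfMod_of_isEquiv {k : Type u} {A : Type v} [Field k] [CommRing A] [HopfAlgebra k A]
    {C : Type w} [CommRing C] [Algebra k C] [Comod k A C] [IsCoactAlg k A C]
    {B : Type w'} [CommRing B] [Algebra k B] [Comod k A B] [IsCoactAlg k A B]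
    [Algebra C B] [IsScalarTower k C B]
    (h : IsEquiv A (IsScalarTower.toAlgHom k C B)) : IsHopfMod k A C B := by
  refine ⟨fun c b => ?_⟩
  rw [Algebra.smul_def, IsCoactAlg.coact_mul]
  have h1 := h c
  rw [IsScalarTower.coe_toAlgHom'] at h1
  rw [h1]
  generalize Comod.coact (k := k) (A := A) c = z
  generalize Comod.coact (k := k) (A := A) b = z'
  induction z with
  | zero => simp
  | add x y hx hy => simp only [map_add, LinearMap.add_apply, add_mul, hx, hy]
  | tmul c a =>
    induction z' with
    | zero => simp
    | add x y hx hy => simp only [map_add, mul_add, hx, hy]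
    | tmul b a' =>
      rw [hmSMul_tmul, Algebra.TensorProduct.map_tmul, Algebra.TensorProduct.tmul_mul_tmul,
        Algebra.smul_def]
      rfl

section General

variable {k : Type u} {A : Type u} [Field k] [IsAlgClosed k] [CommRing A] [HopfAlgebra k A]
  [Algebra.FiniteType k A]
variable {C : Type u} [CommRing C] [Algebra k C] [Comod k A C] [IsCoactAlg k A C]
  [Algebra.FiniteType k C]
variable {B : Type u} [CommRing B] [Algebra k B] [Comod k A B] [IsCoactAlg k A B]
  [Algebra.FiniteType k B]
variable [Algebra C B] [IsScalarTower k C B]

/-- A finite equivariant map, étale at the only point over the image of a point with closed orbit, is an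
isomorphism over the non-vanishing locus of an invariant. -/
theorem exists_invariant_ann (hG : IsLinearlyReductive k A) [Module.Finite C B]
    (he : IsEquiv A (IsScalarTower.toAlgHom k C B)) (x : B →ₐ[k] k)
    (hx : IsClosedOrbit k A (x.comp (IsScalarTower.toAlgHom k C B))) (m : Ideal B) [m.IsMaximal]
    (hm : m = RingHom.ker x.toRingHom) [Algebra.IsEtaleAt C m]
    (huniq : ∀ x' : B →ₐ[k] k, (∀ c : C, x' (algebraMap C B c) = x (algebraMap C B c)) → x' = x) :
    ∃ a ∈ invariants k A C, x (algebraMap C B a) = 1 ∧
      (∀ c : C, algebraMap C B c = 0 → a * c = 0) ∧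
      ∀ b : B, a • b ∈ (algebraMap C B).range := by
  classical
  have hCN : IsNoetherianRing C := Algebra.FiniteType.isNoetherianRing k C
  have hfp : Algebra.FinitePresentation C B := Algebra.FinitePresentation.of_finiteType.1
    inferInstance
  have hmem : ∀ b : B, b ∈ m ↔ x b = 0 := fun b => by rw [hm]; rfl
  have hHM : IsHopfMod k A C B := isHopfMod_of_isEquiv he
  have hHC : IsHopfMod k A C C := isHopfMod_self
  -- the first ideal
  let J₁ : Ideal C :=
    { carrier := {c | ∀ b : B, c • b ∈ (algebraMap C B).range}
      zero_mem' := fun b => by rw [zero_smul]; exact zero_mem _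
      add_mem' := fun {c c'} hc hc' b => by rw [add_smul]; exact add_mem (hc b) (hc' b)
      smul_mem' := fun c c' hc' b => by
        rw [smul_eq_mul, mul_comm, mul_smul]
        exact hc' _ }
  have hJ₁ : IsSubcomod (k := k) (A := A) (J₁.restrictScalars k) := by
    refine isSubcomod_colon (M := B) (P := LinearMap.range (Algebra.linearMap C B)) (Q := ⊤)
      ?_ ?_ J₁ fun c => ?_
    · have h1 : (LinearMap.range (Algebra.linearMap C B)).restrictScalars k =
          LinearMap.range (IsScalarTower.toAlgHom k C B).toLinearMap := by
        ext b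
        exact Iff.rfl
      rw [h1]
      exact he.isComodHom.isSubcomod_range
    · exact isSubcomod_top
    · constructor
      · intro h b _
        obtain ⟨c', hc'⟩ := h b
        exact ⟨c', hc'⟩
      · intro h b
        obtain ⟨c', hc'⟩ := h b trivial
        exact ⟨c', hc'⟩
  -- the second ideal
  let J₂ : Ideal C :=
    { carrier := {c | ∀ c' : C, algebraMap C B c' = 0 → c * c' = 0}
      zero_mem' := fun b _ => by rw [zero_mul]
      add_mem' := fun {c c'} hc hc' b hb => by rw [add_mul, hc b hb, hc' b hb, add_zero]
      smul_mem' := fun c c' hc' b hb => by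
        rw [smul_eq_mul, mul_assoc, hc' b hb, mul_zero] }
  have hJ₂ : IsSubcomod (k := k) (A := A) (J₂.restrictScalars k) := by
    refine isSubcomod_colon (M := C) (P := ⊥) (Q := RingHom.ker (algebraMap C B))
      ?_ ?_ J₂ fun c => ?_
    · intro c hc
      have hc' : c = 0 := hc
      rw [hc', map_zero]
      exact zero_mem _
    · have h1 : (RingHom.ker (algebraMap C B)).restrictScalars k =
          LinearMap.ker (IsScalarTower.toAlgHom k C B).toLinearMap := by
        ext b
        exact Iff.rfl
      rw [h1]
      exact he.isComodHom.isSubcomod_ker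
    · constructor
      · intro h c' hc'
        exact h c' hc'
      · intro h c' hc'
        exact h c' hc'
  -- non-vanishing
  have : Algebra.IsUnramifiedAt C m := inferInstance
  obtain ⟨u₁, hu₁, hu₁'⟩ := exists_smul_mem_range x m hm huniq
  obtain ⟨a₁, ha₁, ha₁J, ha₁x⟩ := exists_invariant_ne_zero hG hJ₁ hx (f := u₁) hu₁' (by
    change x (algebraMap C B u₁) ≠ 0
    rw [hu₁]
    exact one_ne_zero)
  obtain ⟨s, hs⟩ : (RingHom.ker (algebraMap C B)).FG := IsNoetherian.noetherian _
  have h3 : ∀ c : C, ∃ u : C, x (algebraMap C B u) ≠ 0 ∧ (algebraMap C B c = 0 → u * c = 0) := by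
    intro c
    by_cases hc : algebraMap C B c = 0
    · obtain ⟨u, hu, hu'⟩ := exists_mul_eq_zero m hc
      exact ⟨u, fun h => hu ((hmem _).2 h), fun _ => hu'⟩
    · exact ⟨1, by rw [map_one, map_one]; exact one_ne_zero, fun h => absurd h hc⟩
  choose u hu hu' using h3
  have hu₂ : ∏ c ∈ s, u c ∈ J₂ := by
    intro c' hc'
    have h4 : c' ∈ Ideal.span (s : Set C) := by
      rw [hs]
      exact hc'
    induction h4 using Submodule.span_induction with
    | mem y hy =>
      have h5 : algebraMap C B y = 0 := by
        have : y ∈ RingHom.ker (algebraMap C B) := by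
          rw [← hs]
          exact Submodule.subset_span hy
        exact this
      rw [← Finset.mul_prod_erase s u hy, mul_comm (u y), mul_assoc, hu' y h5, mul_zero]
    | zero => rw [mul_zero]
    | add y z hy hz ihy ihz =>
      have h5 : algebraMap C B y = 0 := by
        have : y ∈ RingHom.ker (algebraMap C B) := by
          rw [← hs]
          exact hy
        exact this
      have h6 : algebraMap C B z = 0 := by
        have : z ∈ RingHom.ker (algebraMap C B) := by
          rw [← hs]
          exact hz
        exact this
      rw [mul_add, ihy h5, ihz h6, add_zero]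
    | smul c y hy ihy =>
      have h5 : algebraMap C B y = 0 := by
        have : y ∈ RingHom.ker (algebraMap C B) := by
          rw [← hs]
          exact hy
        exact this
      rw [smul_eq_mul, mul_left_comm, ihy h5, mul_zero]
  obtain ⟨a₂, ha₂, ha₂J, ha₂x⟩ := exists_invariant_ne_zero hG hJ₂ hx (f := ∏ c ∈ s, u c) hu₂ (by
    change x (algebraMap C B (∏ c ∈ s, u c)) ≠ 0
    rw [map_prod, map_prod]
    exact Finset.prod_ne_zero_iff.2 fun c _ => hu c)
  refine ⟨a₁ * a₂, mul_mem ha₁ ha₂, ?_, fun c hc => ?_, fun b => ?_⟩
  · rw [map_mul, map_mul]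
    have h7 : x (algebraMap C B a₁) = 1 := ha₁x
    have h8 : x (algebraMap C B a₂) = 1 := ha₂x
    rw [h7, h8, one_mul]
  · rw [mul_assoc, ha₂J c hc, mul_zero]
  · rw [mul_smul]
    exact ha₁J _

end General

end K798.FinStr
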