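import Groth.Agent.GLin.K798.FinStr

/-!
# The structure of a finite equivariant map near a closed orbit at which it is étale: quotients

`finite_structure`: `S → B` finite and equivariant, `x` a point of `B` whose image has closed orbit, `B` étale over
`S` at `x`, stabiliser condition, `T = B^G` étale over `S₀ = S^G` under `x`; then `S ⊗[S₀] T → B` is an isomorphism
after inverting an element of `T` not vanishing at `x`.
-/

set_option autoImplicit false
set_option linter.unusedSectionVars false
set_option linter.style.haveILetI false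

universe u v w w'

open TensorProduct HopfRep GLin

namespace K798.FinStr

open Groth.Agent.Books Groth.Agent.Books.ComodBasic Groth.Agent.Books.ComodHom
open K765.Basic K765.Closed K764.HopfMod K764.Reductive K798.Sep K798.BcInv K798.EtIso TameAct

section

variable {k : Type u} {A : Type u} [Field k] [IsAlgClosed k] [CommRing A] [HopfAlgebra k A]
  [Algebra.FiniteType k A]
variable {S : Type u} [CommRing S] [Algebra k S] [Comod k A S] [IsCoactAlg k A S]
  [Algebra.FiniteType k S]
variable {B : Type u} [CommRing B] [Algebra k B] [Comod k A B] [IsCoactAlg k A B]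
  [Algebra.FiniteType k B]
variable [Algebra S B] [IsScalarTower k S B]
variable {S₀ : Type u} [CommRing S₀] [Algebra k S₀] [Algebra S₀ S] [IsScalarTower k S₀ S]
variable {T : Type u} [CommRing T] [Algebra k T] [Algebra T B] [IsScalarTower k T B]
variable [Algebra S₀ T] [Algebra S₀ B] [IsScalarTower S₀ S B] [IsScalarTower S₀ T B]

/-- The invariants of an algebra of finite type are Noetherian. -/
lemma isNoetherianRing_of_invariants (hG : IsLinearlyReductive k A)
    (hS₀i : Function.Injective (algebraMap S₀ S))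
    (hS₀m : ∀ s : S₀, algebraMap S₀ S s ∈ invariants k A S)
    (hS₀ : ∀ s ∈ invariants k A S, ∃ s₀ : S₀, algebraMap S₀ S s₀ = s) : IsNoetherianRing S₀ := by
  have hSN : IsNoetherianRing S := Algebra.FiniteType.isNoetherianRing k S
  have h1 := isNoetherianRing_invariants (R := S) hG
  let f : S₀ →+* invariants k A S := (algebraMap S₀ S).codRestrict (invariants k A S) hS₀m
  have hf : Function.Bijective f := by
    refine ⟨fun a b hab => hS₀i (congrArg Subtype.val hab), fun s => ?_⟩
    obtain ⟨s₀, hs₀⟩ := hS₀ s.1 s.2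
    exact ⟨s₀, Subtype.ext hs₀⟩
  exact isNoetherianRing_of_ringEquiv _ (RingEquiv.ofBijective f hf).symm

/-- The invariants of a finite equivariant extension are finite over the invariants of the base. -/
lemma finite_of_invariants (hG : IsLinearlyReductive k A) [Module.Finite S B]
    (he : IsEquiv A (IsScalarTower.toAlgHom k S B))
    (hS₀ : ∀ s ∈ invariants k A S, ∃ s₀ : S₀, algebraMap S₀ S s₀ = s)
    (hTi : Function.Injective (algebraMap T B))
    (hTm : ∀ t : T, algebraMap T B t ∈ invariants k A B)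
    (hT : ∀ b ∈ invariants k A B, ∃ t : T, algebraMap T B t = b) : Module.Finite S₀ T := by
  classical
  have hSN : IsNoetherianRing S := Algebra.FiniteType.isNoetherianRing k S
  have hHM : IsHopfMod k A S B := isHopfMod_of_isEquiv he
  obtain ⟨s, hs, hs'⟩ := exists_finset_fixedPts (R := S) (M := B) hG
  have h1 : ∀ b : s, ∃ t : T, algebraMap T B t = b := fun b => hT b (hs b.2)
  choose t ht using h1
  refine ⟨Finset.univ.image t, ?_⟩
  rw [eq_top_iff]
  intro y _
  have hy : algebraMap T B y ∈ Submodule.span (invariants k A S) (s : Set B) := hs' (hTm y)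
  have key : ∀ b ∈ Submodule.span (invariants k A S) (s : Set B),
      ∃ y ∈ Submodule.span S₀ ((Finset.univ.image t : Finset T) : Set T), algebraMap T B y = b := by
    intro b hb
    induction hb using Submodule.span_induction with
    | mem b hb =>
      refine ⟨t ⟨b, hb⟩, Submodule.subset_span ?_, ht ⟨b, hb⟩⟩
      simp
    | zero => exact ⟨0, zero_mem _, map_zero _⟩
    | add b b' _ _ hb hb' =>
      obtain ⟨y, hy, rfl⟩ := hb
      obtain ⟨y', hy', rfl⟩ := hb'
      exact ⟨y + y', add_mem hy hy', map_add _ _ _⟩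
    | smul c b _ hb =>
      obtain ⟨y, hy, rfl⟩ := hb
      obtain ⟨c₀, hc₀⟩ := hS₀ c.1 c.2
      refine ⟨c₀ • y, Submodule.smul_mem _ _ hy, ?_⟩
      have h2 : c • algebraMap T B y = (c : S) • algebraMap T B y := rfl
      rw [h2, ← hc₀, Algebra.smul_def, Algebra.smul_def, map_mul,
        ← IsScalarTower.algebraMap_apply, ← IsScalarTower.algebraMap_apply]
  obtain ⟨y', hy', hyy'⟩ := key _ hy
  rw [← hTi hyy']
  exact hy'

/-- A finite equivariant map near a point whose image has closed orbit. -/
theorem finite_structure (hG : IsLinearlyReductive k A) [Module.Finite S B]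
    (he : IsEquiv A (IsScalarTower.toAlgHom k S B))
    [IsScalarTower k S₀ T]
    (hS₀i : Function.Injective (algebraMap S₀ S))
    (hS₀m : ∀ s : S₀, algebraMap S₀ S s ∈ invariants k A S)
    (hS₀ : ∀ s ∈ invariants k A S, ∃ s₀ : S₀, algebraMap S₀ S s₀ = s)
    (hTi : Function.Injective (algebraMap T B))
    (hTm : ∀ t : T, algebraMap T B t ∈ invariants k A B)
    (hT : ∀ b ∈ invariants k A B, ∃ t : T, algebraMap T B t = b)
    (x : B →ₐ[k] k) (m : Ideal B) [m.IsMaximal] (hm : m = RingHom.ker x.toRingHom)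
    (het : Algebra.IsEtaleAt S m)
    (hy : IsClosedOrbit k A (x.comp (IsScalarTower.toAlgHom k S B)))
    (hinj : ∀ g : A →ₐ[k] k, actPt k g (x.comp (IsScalarTower.toAlgHom k S B)) =
      x.comp (IsScalarTower.toAlgHom k S B) → actPt k g x = x)
    (hE : Algebra.IsEtaleAt S₀ (m.comap (algebraMap T B))) :
    ∃ a : T, x (algebraMap T B a) ≠ 0 ∧ Algebra.FormallyEtale S₀ (Localization.Away a) ∧
      (∀ z : S ⊗[S₀] T, Algebra.TensorProduct.productMap (IsScalarTower.toAlgHom S₀ S B)
        (IsScalarTower.toAlgHom S₀ T B) z = 0 → ((1 : S) ⊗ₜ[S₀] a) * z = 0) ∧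
      ∀ b : B, ∃ z : S ⊗[S₀] T, Algebra.TensorProduct.productMap (IsScalarTower.toAlgHom S₀ S B)
        (IsScalarTower.toAlgHom S₀ T B) z = algebraMap T B a * b := by
  have hmem : ∀ b : B, b ∈ m ↔ x b = 0 := fun b => by rw [hm]; rfl
  have hSN : IsNoetherianRing S := Algebra.FiniteType.isNoetherianRing k S
  have hS₀N : IsNoetherianRing S₀ := isNoetherianRing_of_invariants hG hS₀i hS₀m hS₀
  have hTfin : Module.Finite S₀ T := finite_of_invariants hG he hS₀ hTi hTm hT
  have hTfp : Algebra.FinitePresentation S₀ T := Algebra.FinitePresentation.of_finiteType.1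
    inferInstance
  obtain ⟨e, hem, hEt⟩ := Algebra.exists_etale_of_isEtaleAt (R := S₀) (m.comap (algebraMap T B))
  have hex : x (algebraMap T B e) ≠ 0 := fun h => hem ((hmem _).2 h)
  -- the comodule algebra `S ⊗ T`
  letI cC : Comod k A (S ⊗[S₀] T) := bcComod hS₀m
  haveI cA : IsCoactAlg k A (S ⊗[S₀] T) := bc_isCoactAlg hS₀m
  let π₀ : S ⊗[S₀] T →ₐ[S₀] B := Algebra.TensorProduct.productMap (IsScalarTower.toAlgHom S₀ S B)
    (IsScalarTower.toAlgHom S₀ T B)
  have hπ : ∀ s t, π₀ (s ⊗ₜ t) = algebraMap S B s * algebraMap T B t := fun s t => by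
    simp [π₀]
  have hk : ∀ c : k, π₀ (algebraMap k (S ⊗[S₀] T) c) = algebraMap k B c := by
    intro c
    rw [Algebra.TensorProduct.algebraMap_apply, hπ, map_one, mul_one,
      ← IsScalarTower.algebraMap_apply]
  letI : Algebra (S ⊗[S₀] T) B := π₀.toRingHom.toAlgebra
  have halg : ∀ z, algebraMap (S ⊗[S₀] T) B z = π₀ z := fun z => rfl
  haveI tkCB : IsScalarTower k (S ⊗[S₀] T) B := IsScalarTower.of_algebraMap_eq fun c => by
    rw [halg, hk]
  haveI tSCB : IsScalarTower S (S ⊗[S₀] T) B := IsScalarTower.of_algebraMap_eq fun c => by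
    rw [halg, Algebra.TensorProduct.algebraMap_apply, Algebra.algebraMap_self_apply, hπ, map_one,
      mul_one]
  haveI : Module.Finite (S ⊗[S₀] T) B := Module.Finite.of_restrictScalars_finite S _ _
  haveI : Algebra.FiniteType k (S ⊗[S₀] T) := by
    haveI : Algebra.FiniteType S (S ⊗[S₀] T) := inferInstance
    exact Algebra.FiniteType.trans (S := S) inferInstance inferInstance
  have heC : IsEquiv A (IsScalarTower.toAlgHom k (S ⊗[S₀] T) B) := by
    refine bc_isEquiv_lift hS₀m _ ?_ fun t => ?_
    · have h1 : (IsScalarTower.toAlgHom k (S ⊗[S₀] T) B).comp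
          ((Algebra.TensorProduct.includeLeft : S →ₐ[S₀] S ⊗[S₀] T).restrictScalars k) =
          IsScalarTower.toAlgHom k S B := by
        apply AlgHom.ext
        intro s
        change π₀ (s ⊗ₜ 1) = algebraMap S B s
        rw [hπ, map_one, mul_one]
      rw [h1]
      exact he
    · change π₀ (1 ⊗ₜ t) ∈ _
      rw [hπ, map_one, one_mul]
      exact hTm t
  have hint : (IsScalarTower.toAlgHom k (S ⊗[S₀] T) B).toRingHom.IsIntegral := by
    have : Algebra.IsIntegral (S ⊗[S₀] T) B := inferInstance
    exact this.isIntegral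
  have hintS : (IsScalarTower.toAlgHom k S B).toRingHom.IsIntegral := by
    have : Algebra.IsIntegral S B := inferInstance
    exact this.isIntegral
  have hx : IsClosedOrbit k A x := isClosedOrbit_of_comp_of_finite he hintS hy
  have hxC : IsClosedOrbit k A (x.comp (IsScalarTower.toAlgHom k (S ⊗[S₀] T) B)) :=
    isClosedOrbit_comp_of_finite heC hint hx
  -- étaleness
  have hS' : Algebra.IsEtaleAt S (m.comap (algebraMap (S ⊗[S₀] T) B)) := by
    refine isEtaleAt_tensor e _ ?_
    rw [Ideal.mem_comap, halg, hπ, map_one, one_mul, hmem]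
    exact hex
  have hetC : Algebra.IsEtaleAt (S ⊗[S₀] T) m := by
    set p := m.comap (algebraMap (S ⊗[S₀] T) B) with hp
    have hlo : m.LiesOver p := ⟨hp⟩
    let := Localization.AtPrime.algebraOfLiesOver p m
    haveI : IsScalarTower S (Localization.AtPrime p) (Localization.AtPrime m) := by
      refine IsScalarTower.of_algebraMap_eq fun s => ?_
      rw [IsScalarTower.algebraMap_apply S (S ⊗[S₀] T) (Localization.AtPrime m),
        IsScalarTower.algebraMap_apply S (S ⊗[S₀] T) (Localization.AtPrime p),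
        ← IsScalarTower.algebraMap_apply (S ⊗[S₀] T) (Localization.AtPrime p)]
    haveI : Algebra.FormallyEtale S (Localization.AtPrime p) := hS'
    haveI : Algebra.FormallyEtale (Localization.AtPrime p) (Localization.AtPrime m) :=
      Algebra.FormallyEtale.of_restrictScalars (R := S)
    exact Algebra.FormallyEtale.comp _ (Localization.AtPrime p) _
  -- uniqueness
  have huniq : ∀ x' : B →ₐ[k] k, (∀ c : S ⊗[S₀] T, x' (algebraMap (S ⊗[S₀] T) B c) =
      x (algebraMap (S ⊗[S₀] T) B c)) → x' = x := by
    intro x' hx'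
    have h1 : x'.comp (IsScalarTower.toAlgHom k S B) = x.comp (IsScalarTower.toAlgHom k S B) := by
      apply AlgHom.ext
      intro s
      have := hx' (s ⊗ₜ 1)
      rw [halg, hπ, map_one, mul_one] at this
      exact this
    have h2 : IsClosedOrbit k A x' := by
      refine isClosedOrbit_of_comp_of_finite he hintS ?_
      rw [h1]
      exact hy
    obtain ⟨g, hg⟩ := exists_actPt_eq hG hx h2 (fun f hf => by
      obtain ⟨t, rfl⟩ := hT f hf
      have := hx' (1 ⊗ₜ t)
      rw [halg, hπ, map_one, one_mul] at this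
      exact this.symm)
    rw [hg]
    apply hinj
    rw [actPt_comp he, ← hg, h1]
  obtain ⟨a, ha, hxa, ha1, ha2⟩ := exists_invariant_ann hG heC x hxC m hm huniq
  obtain ⟨t, rfl⟩ := bc_exists_of_mem_invariants hG hS₀m hS₀ a ha
  have hxt : x (algebraMap T B t) = 1 := by
    rw [halg, hπ, map_one, one_mul] at hxa
    exact hxa
  have hte : ∀ z : S ⊗[S₀] T, ((1 : S) ⊗ₜ[S₀] (e * t)) * z =
      (1 ⊗ₜ e) * ((1 ⊗ₜ t) * z) := by
    intro z
    rw [← mul_assoc, Algebra.TensorProduct.tmul_mul_tmul, one_mul]
  refine ⟨e * t, ?_, ?_, fun z hz => ?_, fun b => ?_⟩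
  · rw [map_mul, map_mul, hxt, mul_one]
    exact hex
  · have h3 : (PrimeSpectrum.basicOpen (e * t) : Set (PrimeSpectrum T)) ⊆
        Algebra.etaleLocus S₀ T := by
      refine Set.Subset.trans ?_ (Algebra.basicOpen_subset_etaleLocus_iff (R := S₀) (f := e).2
        inferInstance)
      rw [PrimeSpectrum.basicOpen_mul]
      exact Set.inter_subset_left
    exact Algebra.basicOpen_subset_etaleLocus_iff.1 h3
  · rw [hte, ha1 z hz, mul_zero]
  · obtain ⟨z, hz⟩ := ha2 b
    refine ⟨(1 ⊗ₜ e) * z, ?_⟩
    have hz' : π₀ z = π₀ (1 ⊗ₜ t) * b := hz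
    change π₀ _ = _
    rw [map_mul, hz', hπ, hπ, map_one, one_mul, one_mul, map_mul, mul_assoc]

end

end K798.FinStr
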