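import Groth.Agent.GLin.K765.Closed
import Groth.Agent.GLin.K765.Tr
import Groth.Agent.GLin.K764.Reductive

/-!
# Closed orbits and stable ideals

* `exists_invariant_ne_zero`: a stable ideal which does not vanish at a point with closed orbit contains an
  invariant which does not vanish at the point;
* `exists_actPt_eq`: two points with closed orbits and the same invariants are in the same orbit;
* `isSubcomod_ideal_of_smul`: annihilator-type ideals.
-/

set_option autoImplicit false

universe u v w

open TensorProduct HopfRep GLin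

namespace K798.Sep

open Groth.Agent.Books.ComodBasic Groth.Agent.Books.ComodHom Groth.Agent.Books.ComodInv
open Groth.Agent.Books K701.Basic K701.Orbit K701.Orbit2 K701.Orbit3 K765.Basic K765.Closed

variable {k : Type u} {A : Type u} [Field k] [IsAlgClosed k] [CommRing A] [HopfAlgebra k A]
  [Algebra.FiniteType k A]
variable {R : Type u} [CommRing R] [Algebra k R] [Comod k A R] [IsCoactAlg k A R]
  [Algebra.FiniteType k R]

omit [IsAlgClosed k] [Algebra.FiniteType k A] [Algebra.FiniteType k R] in
/-- Stable ideals containing a point contain its orbit. -/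
lemma le_ker_actPt {I : Ideal R} (hI : IsSubcomod (k := k) (A := A) (I.restrictScalars k))
    {x : R →ₐ[k] k} {g : A →ₐ[k] k} (h : ∀ f ∈ I, actPt k g x f = 0) : ∀ f ∈ I, x f = 0 := by
  intro f hf
  have h1 := le_ker_orbitHom (A := A) (x := actPt k g x) hI h hf
  rw [ker_orbitHom_actPt] at h1
  exact ker_orbitHom_le_ker (A := A) x h1

/-- A stable ideal not vanishing at a point with closed orbit contains an invariant not vanishing at
the point. -/
theorem exists_invariant_ne_zero (hG : IsLinearlyReductive k A) {I : Ideal R}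
    (hI : IsSubcomod (k := k) (A := A) (I.restrictScalars k)) {x : R →ₐ[k] k}
    (hx : IsClosedOrbit k A x) {f : R} (hf : f ∈ I) (hfx : x f ≠ 0) :
    ∃ a ∈ invariants k A R, a ∈ I ∧ x a = 1 := by
  have hcl := (isClosedOrbit_iff_closedOrb x).1 hx
  by_cases htop : I ⊔ RingHom.ker (orbitHom k A x) = ⊤
  · obtain ⟨a, ha, haI, hax⟩ := exists_fixed_mem_of_sup_eq_top hG
      (IsCoactAlg.coact_one (k := k) (A := A) (R := R)) _ _
      hI (isSubcomod_ker_orbitHom x) htop
    have h1 : x (a - 1) = 0 := ker_orbitHom_le_ker (A := A) x hax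
    refine ⟨a, ha, haI, ?_⟩
    rw [map_sub, map_one, sub_eq_zero] at h1
    exact h1
  · obtain ⟨z, hz⟩ := exists_point_of_ne_top k R _ htop
    obtain ⟨g, rfl⟩ := hcl z fun f hf => hz f (Ideal.mem_sup_right hf)
    exact absurd (le_ker_actPt hI (fun f hf => hz f (Ideal.mem_sup_left hf)) f hf) hfx

/-- Points with closed orbits and the same invariants are in the same orbit. -/
theorem exists_actPt_eq (hG : IsLinearlyReductive k A) {x y : R →ₐ[k] k}
    (hx : IsClosedOrbit k A x) (hy : IsClosedOrbit k A y)
    (h : ∀ f ∈ invariants k A R, x f = y f) : ∃ g : A →ₐ[k] k, y = actPt k g x := by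
  have hcx := (isClosedOrbit_iff_closedOrb x).1 hx
  have hcy := (isClosedOrbit_iff_closedOrb y).1 hy
  obtain ⟨z, hz, hz'⟩ := exists_common_point hG x y h
  obtain ⟨g, rfl⟩ := hcx z hz
  obtain ⟨g', hg'⟩ := hcy _ hz'
  have h1 : y = actPt k (K765.Tr.inv g') (actPt k g x) := by
    rw [hg', K765.Tr.actPt_inv]
  refine ⟨(WithConv.toConv g * WithConv.toConv (K765.Tr.inv g')).ofConv, ?_⟩
  rw [h1, actPt_mul]

end K798.Sep
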