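import Groth.Agent.GLin.K798.Sep
import Groth.Agent.GLin.K765.ZMT

/-!
# The equivariant form of Zariski's main theorem near a closed orbit

`exists_stable_finite_at`: for `S → R` equivariant and quasi-finite at a prime `m` there is a stable subalgebra `B` of
`R`, finite over `S`, and `r ∈ B`, `r ∉ m` with `B[1/r] = R[1/r]`;
`exists_finite_invariant_nhd`: at a point whose image has closed orbit, `r` may be chosen invariant.
-/

set_option autoImplicit false
set_option linter.unusedSectionVars false
set_option linter.style.haveILetI false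

universe u v w w'

open TensorProduct HopfRep GLin

namespace K798.ZMTpt

open Groth.Agent.Books Groth.Agent.Books.ComodBasic Groth.Agent.Books.ComodHom
open K765.Basic K765.Tr K765.SubAlg K765.ZMT K765.Closed

section

variable {k : Type u} {A : Type v} [Field k] [IsAlgClosed k] [CommRing A] [HopfAlgebra k A]
  [Algebra.FiniteType k A] [IsReduced A]
variable {S : Type w} [CommRing S] [Algebra k S] [Comod k A S] [IsCoactAlg k A S]
variable {R : Type w'} [CommRing R] [Algebra k R] [Comod k A R] [IsCoactAlg k A R]
variable [Algebra S R] [IsScalarTower k S R]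

/-- Equivariant Zariski's main theorem at a prime. -/
theorem exists_stable_finite_at [Algebra.FiniteType k R] (m : Ideal R) [m.IsPrime]
    [Algebra.QuasiFiniteAt S m]
    (he : IsEquiv A (IsScalarTower.toAlgHom k S R)) :
    ∃ B : Subalgebra S R, Module.Finite S B ∧
      IsSubcomod (k := k) (A := A) ((Subalgebra.toSubmodule B).restrictScalars k) ∧
      ∃ g ∈ B, g ∉ m ∧ ∀ x : R, ∃ n : ℕ, g ^ n * x ∈ B := by
  classical
  haveI : Algebra.FiniteType S R := Algebra.FiniteType.of_restrictScalars_finiteType k S R
  obtain ⟨B₀, hB₀, r, hrm, hr⟩ :=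
    Algebra.QuasiFiniteAt.exists_fg_and_exists_notMem_and_awayMap_bijective (R := S) (S := R) m
  obtain ⟨T, hT⟩ := hB₀
  have hfin₀ : Module.Finite S (Subalgebra.toSubmodule B₀) := Module.Finite.iff_fg.2 ⟨T, hT⟩
  obtain ⟨E, hE, hEfin, hTE⟩ : ∃ E : Submodule k R, IsSubcomod (k := k) (A := A) E ∧
      Module.Finite k E ∧ (∀ t ∈ T, t ∈ E) ∧ E ≤
        (Subalgebra.toSubmodule (integralClosure S R)).restrictScalars k := by
    refine ⟨⨆ v ∈ T, gen k A v, IsSubcomod.iSup fun v => IsSubcomod.iSup fun _ => isSubcomod_gen v,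
      ?_, ?_, ?_⟩
    · rw [← Finset.sup_eq_iSup]
      exact Submodule.finiteDimensional_finset_sup T (fun v => gen k A v)
    · intro v hv
      exact Submodule.mem_iSup_of_mem v (Submodule.mem_iSup_of_mem hv (self_mem_gen v))
    · refine iSup₂_le fun t ht => gen_le (isSubcomod_integralClosure he) ?_
      have h1 : t ∈ Subalgebra.toSubmodule B₀ := by
        rw [← hT]
        exact Submodule.subset_span ht
      have hfin₁ : Module.Finite S B₀ := hfin₀
      have h2 : IsIntegral S (⟨t, h1⟩ : B₀) := Algebra.IsIntegral.isIntegral _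
      exact h2.map B₀.val
  obtain ⟨hTE, hEint⟩ := hTE
  let B : Subalgebra S R := Algebra.adjoin S (E : Set R)
  have hBfin : Module.Finite S B := by
    obtain ⟨s, hs⟩ := Module.Finite.iff_fg.mp hEfin
    have hB : B = Algebra.adjoin S (s : Set R) := by
      refine le_antisymm ?_ (Algebra.adjoin_mono ?_)
      · refine Algebra.adjoin_le ?_
        have : E ≤ (Subalgebra.toSubmodule (Algebra.adjoin S (s : Set R))).restrictScalars k := by
          rw [← hs, Submodule.span_le]
          exact Algebra.subset_adjoin
        exact this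
      · rw [← hs]
        exact Submodule.subset_span
    rw [hB]
    refine ⟨(Submodule.fg_top _).mpr (fg_adjoin_of_finite s.finite_toSet fun x hx => ?_)⟩
    exact hEint (by rw [← hs]; exact Submodule.subset_span hx)
  refine ⟨B, hBfin, ?_, ?_⟩
  · have key : ∀ b ∈ B, Comod.coact (k := k) (A := A) b ∈
        (Algebra.TensorProduct.map (B.restrictScalars k).val (AlgHom.id k A)).range := by
      intro b hb
      induction hb using Algebra.adjoin_induction with
      | mem x hx =>
        exact mem_range_map_subtype (W := E) (B := B.restrictScalars k)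
          (fun y hy => Algebra.subset_adjoin hy) (hE x hx)
      | algebraMap s =>
        rw [show (algebraMap S R) s = IsScalarTower.toAlgHom k S R s from rfl, he s]
        generalize Comod.coact (k := k) (A := A) s = z
        induction z with
        | zero => simp
        | tmul a b =>
          exact ⟨(⟨algebraMap S R a, B.algebraMap_mem a⟩ : B.restrictScalars k) ⊗ₜ b, rfl⟩
        | add a b ha hb => rw [map_add]; exact add_mem ha hb
      | add x y _ _ hx hy => rw [map_add]; exact add_mem hx hy
      | mul x y _ _ hx hy => rw [IsCoactAlg.coact_mul]; exact mul_mem hx hy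
    exact (isSubcomod_iff_subalgebra (B.restrictScalars k)).2 key
  · have hle : B₀ ≤ B := by
      intro x hx
      have : x ∈ Submodule.span S (T : Set R) := by rw [hT]; exact hx
      have h2 : Submodule.span S (T : Set R) ≤ Subalgebra.toSubmodule B := by
        rw [Submodule.span_le]
        exact fun t ht => Algebra.subset_adjoin (hTE t ht)
      exact h2 this
    refine ⟨r.1, hle r.2, hrm, fun x => ?_⟩
    obtain ⟨b, n, hb⟩ := (Localization.awayMap_surjective_iff).1 hr.2 x
    refine ⟨n, ?_⟩
    have : (r.1 : R) ^ n * x = b.1 := hb.symm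
    rw [this]
    exact hle b.2

/-- The ideal of `B ⊆ R` of the complement of the largest open over which `B = R`. -/
def cond (B : Subalgebra S R) : Ideal B where
  carrier := {b | ∀ x : R, ∃ n : ℕ, (b : R) ^ n * x ∈ B}
  zero_mem' := fun x => ⟨1, by simp⟩
  smul_mem' := by
    intro c b hb x
    obtain ⟨n, hn⟩ := hb x
    refine ⟨n, ?_⟩
    rw [smul_eq_mul, MulMemClass.coe_mul, mul_pow, mul_assoc]
    exact B.mul_mem (B.pow_mem c.2 n) hn
  add_mem' := by
    intro a b ha hb x
    obtain ⟨n, hn⟩ := ha x
    obtain ⟨l, hl⟩ := hb x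
    refine ⟨n + l, ?_⟩
    rw [AddMemClass.coe_add, add_pow, Finset.sum_mul]
    refine B.sum_mem fun i hi => ?_
    rw [Finset.mem_range] at hi
    by_cases h : n ≤ i
    · obtain ⟨j, rfl⟩ := Nat.exists_eq_add_of_le h
      have : (a : R) ^ (n + j) * (b : R) ^ (n + l - (n + j)) * ((n + l).choose (n + j) : R) * x =
          (a : R) ^ j * (b : R) ^ (n + l - (n + j)) * ((n + l).choose (n + j) : R) *
            ((a : R) ^ n * x) := by ring
      rw [this]
      exact B.mul_mem (B.mul_mem (B.mul_mem (B.pow_mem a.2 _) (B.pow_mem b.2 _))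
        (B.natCast_mem _)) hn
    · have h2 : l ≤ n + l - i := by omega
      obtain ⟨j, hj⟩ := Nat.exists_eq_add_of_le h2
      rw [hj]
      have : (a : R) ^ i * (b : R) ^ (l + j) * ((n + l).choose i : R) * x =
          (a : R) ^ i * (b : R) ^ j * ((n + l).choose i : R) * ((b : R) ^ l * x) := by ring
      rw [this]
      exact B.mul_mem (B.mul_mem (B.mul_mem (B.pow_mem a.2 _) (B.pow_mem b.2 _))
        (B.natCast_mem _)) hl

end

section

variable {k : Type u} {A : Type u} [Field k] [IsAlgClosed k] [CommRing A] [HopfAlgebra k A]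
  [Algebra.FiniteType k A] [IsReduced A]
variable {S : Type u} [CommRing S] [Algebra k S] [Comod k A S] [IsCoactAlg k A S]
variable {R : Type u} [CommRing R] [Algebra k R] [Comod k A R] [IsCoactAlg k A R]
variable [Algebra S R] [IsScalarTower k S R]

/-- Equivariant Zariski's main theorem near a point whose image has closed orbit. -/
theorem exists_finite_invariant_nhd (hG : IsLinearlyReductive k A) [Algebra.FiniteType k S]
    [Algebra.FiniteType k R]
    (he : IsEquiv A (IsScalarTower.toAlgHom k S R)) (x : R →ₐ[k] k) (m : Ideal R) [m.IsPrime]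
    (hm : m = RingHom.ker x.toRingHom) [Algebra.QuasiFiniteAt S m]
    (hy : IsClosedOrbit k A (x.comp (IsScalarTower.toAlgHom k S R))) :
    ∃ B : Subalgebra S R, Module.Finite S B ∧
      IsSubcomod (k := k) (A := A) ((Subalgebra.toSubmodule B).restrictScalars k) ∧
      ∃ a ∈ B, a ∈ invariants k A R ∧ x a = 1 ∧ ∀ r : R, ∃ n : ℕ, a ^ n * r ∈ B := by
  obtain ⟨B, hBfin, hB, g, hgB, hgm, hg⟩ := exists_stable_finite_at (S := S) m he
  refine ⟨B, hBfin, hB, ?_⟩
  let i : B →ₐ[k] R := B.val.restrictScalars k
  have hi : Function.Injective i := Subtype.val_injective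
  have hr : IsSubcomod (k := k) (A := A) (LinearMap.range i.toLinearMap) := by
    have : LinearMap.range i.toLinearMap = (Subalgebra.toSubmodule B).restrictScalars k := by
      ext x
      exact ⟨fun ⟨b, hb⟩ => hb ▸ b.2, fun hx => ⟨⟨x, hx⟩, rfl⟩⟩
    rw [this]
    exact hB
  letI cB : Comod k A B := comodInj i hi hr
  haveI cA : IsCoactAlg k A B := isCoactAlg_inj i hi hr
  have hi_equiv : IsEquiv A i := isEquiv_inj i hi hr
  have hBk : Algebra.FiniteType k B := by
    haveI : Algebra.FiniteType S B := inferInstance
    exact Algebra.FiniteType.trans (S := S) inferInstance inferInstance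
  let ψ : S →ₐ[k] B := IsScalarTower.toAlgHom k S B
  have hψ : IsEquiv A ψ := by
    intro s
    apply map_injective (A := A) hi
    rw [← hi_equiv (ψ s)]
    have h1 : i (ψ s) = IsScalarTower.toAlgHom k S R s := rfl
    rw [h1, he s]
    have h2 : IsScalarTower.toAlgHom k S R = i.comp ψ := rfl
    rw [h2, ← AlgHom.comp_apply, ← Algebra.TensorProduct.map_comp, AlgHom.id_comp]
  -- the image of `x` in `Spec B` has closed orbit
  have hxB : IsClosedOrbit k A (x.comp i) := by
    refine isClosedOrbit_of_comp_of_finite hψ ?_ hy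
    have : Algebra.IsIntegral S B := inferInstance
    exact this.isIntegral
  -- the ideal
  have hstab : IsSubcomod (k := k) (A := A) ((cond B).restrictScalars k) := by
    refine isSubcomod_ideal_of_tr _ fun g b hb x => ?_
    obtain ⟨n, hn⟩ := hb (tr R (inv g) x)
    refine ⟨n, ?_⟩
    have h1 : ((tr B g b : B) : R) = tr R g (b : R) := map_tr hi_equiv g b
    have h2 : (tr R g (b : R)) ^ n * x = tr R g ((b : R) ^ n * tr R (inv g) x) := by
      rw [map_mul, map_pow, tr_tr_inv']
    rw [h1, h2]
    exact tr_mem_of_isSubcomod hB g hn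
  obtain ⟨a, ha, haI, hxa⟩ := K798.Sep.exists_invariant_ne_zero hG hstab hxB
    (f := ⟨g, hgB⟩) hg (by
      intro h
      apply hgm
      rw [hm]
      exact h)
  exact ⟨a.1, a.2, hi_equiv.map_mem_invariants ha, hxa, haI⟩

end

end K798.ZMTpt
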