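import Groth.Agent.GLin.K798.FinStr2
import Groth.Agent.GLin.K798.ZMTpt
import Groth.Agent.GLin.K798.AwayIso
import Groth.Agent.SchFin.K868.GeomPt
import Mathlib.RingTheory.Spectrum.Prime.Chevalley

/-!
# The fundamental lemma: strongly étale neighbourhoods (reduction to the finite case)

`FinCase k A S S₀`: the finite case of the fundamental lemma over `S`;
`exists_subalgebra`: the structure near a point whose image has closed orbit.
-/

set_option autoImplicit false
set_option linter.unusedSectionVars false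
set_option linter.style.haveILetI false

universe u v w w'

open TensorProduct HopfRep GLin

namespace K798.Strong

open Groth.Agent.Books Groth.Agent.Books.ComodBasic Groth.Agent.Books.ComodHom
open K765.Basic K765.Closed K765.SubAlg K798.Sep K798.EtIso K798.AwayIso K798.FinStr K798.ZMTpt

/-- The finite case of the fundamental lemma, over `S` with invariants `S₀`. -/
def FinCase (k : Type u) [Field k] (A : Type u) [CommRing A] [HopfAlgebra k A]
    (S : Type u) [CommRing S] [Algebra k S] [Comod k A S] [IsCoactAlg k A S]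
    (S₀ : Type u) [CommRing S₀] [Algebra k S₀] [Algebra S₀ S] [IsScalarTower k S₀ S] : Prop :=
  ∀ (B T : Type u) [CommRing B] [Algebra k B] [Algebra.FiniteType k B] [Comod k A B]
    [IsCoactAlg k A B] [Algebra S B] [IsScalarTower k S B] [Module.Finite S B]
    (_ : IsEquiv A (IsScalarTower.toAlgHom k S B))
    [CommRing T] [Algebra k T] [Algebra T B] [IsScalarTower k T B]
    (_ : Function.Injective (algebraMap T B))
    (_ : (IsScalarTower.toAlgHom k T B).range = invariants k A B)
    [Algebra S₀ T] [Algebra S₀ B] [IsScalarTower S₀ S B] [IsScalarTower S₀ T B]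
    (x : B →ₐ[k] k) (_ : IsClosedOrbit k A x) (m : Ideal B) [m.IsMaximal]
    (_ : m = RingHom.ker x.toRingHom) (_ : Algebra.IsEtaleAt S m)
    (_ : ∀ g : A →ₐ[k] k, actPt k g (x.comp (IsScalarTower.toAlgHom k S B)) =
      x.comp (IsScalarTower.toAlgHom k S B) → actPt k g x = x),
    Algebra.IsEtaleAt S₀ (Ideal.comap (algebraMap T B) m)

lemma pow_mul_eq_zero_aux {C : Type*} [CommRing C] {u v w : C} {n : ℕ}
    (h : u * (v ^ n * w) = 0) : (u * v) ^ (n + 1) * w = 0 := by
  have : (u * v) ^ (n + 1) * w = (u ^ n * v) * (u * (v ^ n * w)) := by ring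
  rw [this, h, mul_zero]

lemma add_aux {C : Type*} [CommRing C] (v y z : C) (n l : ℕ) :
    v ^ l * (v ^ n * y) + v ^ n * (v ^ l * z) = v ^ (n + l) * (y + z) := by ring

lemma pow_aux {C : Type*} [CommRing C] (a f r : C) (n : ℕ) :
    a ^ n * f * (a * (f ^ n * r)) = (a * f) ^ (n + 1) * r := by ring

section

variable {k : Type u} {A : Type u} [Field k] [IsAlgClosed k] [CommRing A] [HopfAlgebra k A]
  [Algebra.FiniteType k A] [IsReduced A]
variable {S : Type u} [CommRing S] [Algebra k S] [Comod k A S] [IsCoactAlg k A S]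
  [Algebra.FiniteType k S]
variable {R : Type u} [CommRing R] [Algebra k R] [Comod k A R] [IsCoactAlg k A R]
  [Algebra.FiniteType k R]
variable [Algebra S R] [IsScalarTower k S R]
variable {S₀ : Type u} [CommRing S₀] [Algebra k S₀] [Algebra S₀ S] [IsScalarTower k S₀ S]
variable {R₀ : Type u} [CommRing R₀] [Algebra k R₀] [Algebra R₀ R] [IsScalarTower k R₀ R]
variable [Algebra S₀ R₀] [Algebra S₀ R] [IsScalarTower S₀ S R] [IsScalarTower S₀ R₀ R]

/-- The structure theorem: a subalgebra `T` of `R₀` and `h ∈ T`. -/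
theorem exists_subalgebra (hG : IsLinearlyReductive k A)
    (he : IsEquiv A (IsScalarTower.toAlgHom k S R))
    (hS₀i : Function.Injective (algebraMap S₀ S))
    (hS₀ : (IsScalarTower.toAlgHom k S₀ S).range = invariants k A S)
    (hR₀i : Function.Injective (algebraMap R₀ R))
    (hR₀ : (IsScalarTower.toAlgHom k R₀ R).range = invariants k A R)
    (hF : FinCase k A S S₀)
    (x : R →ₐ[k] k) (m : Ideal R) [m.IsMaximal] (hm : m = RingHom.ker x.toRingHom)
    (het : Algebra.IsEtaleAt S m)
    (hy : IsClosedOrbit k A (x.comp (IsScalarTower.toAlgHom k S R)))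
    (hinj : ∀ g : A →ₐ[k] k, actPt k g (x.comp (IsScalarTower.toAlgHom k S R)) =
      x.comp (IsScalarTower.toAlgHom k S R) → actPt k g x = x) :
    ∃ h : R₀, x (algebraMap R₀ R h) ≠ 0 ∧ Algebra.Etale S₀ (Localization.Away h) ∧
      (∀ z : S ⊗[S₀] R₀, Algebra.TensorProduct.productMap (IsScalarTower.toAlgHom S₀ S R)
        (IsScalarTower.toAlgHom S₀ R₀ R) z = 0 → ∃ n : ℕ, ((1 : S) ⊗ₜ[S₀] h) ^ n * z = 0) ∧
      ∀ r : R, ∃ (n : ℕ) (z : S ⊗[S₀] R₀), Algebra.TensorProduct.productMap
        (IsScalarTower.toAlgHom S₀ S R) (IsScalarTower.toAlgHom S₀ R₀ R) z =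
          algebraMap R₀ R h ^ n * r := by
  classical
  have hmem : ∀ b : R, b ∈ m ↔ x b = 0 := fun b => by rw [hm]; rfl
  have hS₀m : ∀ s : S₀, algebraMap S₀ S s ∈ invariants k A S := fun s => by
    rw [← hS₀]
    exact ⟨s, rfl⟩
  have hS₀s : ∀ s ∈ invariants k A S, ∃ s₀ : S₀, algebraMap S₀ S s₀ = s := fun s hs => by
    rw [← hS₀] at hs
    exact hs
  have hR₀m : ∀ s : R₀, algebraMap R₀ R s ∈ invariants k A R := fun s => by
    rw [← hR₀]
    exact ⟨s, rfl⟩
  have hR₀s : ∀ s ∈ invariants k A R, ∃ s₀ : R₀, algebraMap R₀ R s₀ = s := fun s hs => by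
    rw [← hR₀] at hs
    exact hs
  haveI tkS₀R : IsScalarTower k S₀ R := IsScalarTower.of_algebraMap_eq fun c => by
    rw [IsScalarTower.algebraMap_apply S₀ S R, ← IsScalarTower.algebraMap_apply k S₀ S,
      ← IsScalarTower.algebraMap_apply k S R]
  haveI tkS₀R₀ : IsScalarTower k S₀ R₀ := IsScalarTower.of_algebraMap_eq fun c => by
    apply hR₀i
    rw [← IsScalarTower.algebraMap_apply, ← IsScalarTower.algebraMap_apply S₀ R₀ R,
      ← IsScalarTower.algebraMap_apply]
  haveI : Algebra.FiniteType S R := Algebra.FiniteType.of_restrictScalars_finiteType k S R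
  haveI : IsNoetherianRing S := Algebra.FiniteType.isNoetherianRing k S
  haveI : Algebra.FinitePresentation S R := Algebra.FinitePresentation.of_finiteType.1
    inferInstance
  haveI hqf : Algebra.QuasiFiniteAt S m := by
    have := het
    infer_instance
  obtain ⟨B, hBfin, hB, f, hfB, hfinv, hxf, hf⟩ := exists_finite_invariant_nhd hG he x m hm hy
  -- the comodule algebra `B`
  let i : B →ₐ[k] R := B.val.restrictScalars k
  have hi : Function.Injective i := Subtype.val_injective
  have hr : IsSubcomod (k := k) (A := A) (LinearMap.range i.toLinearMap) := by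
    have : LinearMap.range i.toLinearMap = (Subalgebra.toSubmodule B).restrictScalars k := by
      ext x
      exact ⟨fun ⟨b, hb⟩ => hb ▸ b.2, fun hx => ⟨⟨x, hx⟩, rfl⟩⟩
    rw [this]
    exact hB
  letI cB : Comod k A B := comodInj i hi hr
  haveI cA : IsCoactAlg k A B := isCoactAlg_inj i hi hr
  have hi_equiv : IsEquiv A i := isEquiv_inj i hi hr
  haveI hBk : Algebra.FiniteType k B := by
    haveI : Algebra.FiniteType S B := inferInstance
    exact Algebra.FiniteType.trans (S := S) inferInstance inferInstance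
  let ψ : S →ₐ[k] B := IsScalarTower.toAlgHom k S B
  have hψ : IsEquiv A ψ := by
    intro s
    apply map_injective (A := A) hi
    rw [← hi_equiv (ψ s)]
    have h1 : i (ψ s) = IsScalarTower.toAlgHom k S R s := rfl
    rw [h1, he s]
    have h2 : IsScalarTower.toAlgHom k S R = i.comp ψ := rfl
    rw [h2, ← AlgHom.comp_apply, ← Algebra.TensorProduct.map_comp, AlgHom.id_comp]
  have hinvB : ∀ b : B, b ∈ invariants k A B ↔ (b : R) ∈ invariants k A R := by
    intro b
    constructor
    · exact fun h => hi_equiv.map_mem_invariants h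
    · intro h
      rw [mem_invariants_iff] at h ⊢
      apply map_injective (A := A) hi
      rw [← hi_equiv b]
      exact h
  -- the invariants of `B` as a subalgebra of `R₀`
  obtain ⟨T, hTB⟩ : ∃ T : Subalgebra S₀ R₀, ∀ t, t ∈ T ↔ algebraMap R₀ R t ∈ B :=
    ⟨{ carrier := {t | algebraMap R₀ R t ∈ B}
       mul_mem' := fun {a b} ha hb => by
         change algebraMap R₀ R (a * b) ∈ B
         rw [map_mul]
         exact B.mul_mem ha hb
       add_mem' := fun {a b} ha hb => by
         change algebraMap R₀ R (a + b) ∈ B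
         rw [map_add]
         exact B.add_mem ha hb
       algebraMap_mem' := fun s => by
         change algebraMap R₀ R (algebraMap S₀ R₀ s) ∈ B
         rw [← IsScalarTower.algebraMap_apply, IsScalarTower.algebraMap_apply S₀ S R]
         exact B.algebraMap_mem _ }, fun t => Iff.rfl⟩
  let τ : T →+* B := ((algebraMap R₀ R).comp T.subtype).codRestrict B fun t => (hTB _).1 t.2
  letI aTB : Algebra T B := τ.toAlgebra
  have hτ : ∀ t : T, ((algebraMap T B t : B) : R) = algebraMap R₀ R (t : R₀) := fun _ => rfl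
  letI aS₀B : Algebra S₀ B := ((algebraMap S B).comp (algebraMap S₀ S)).toAlgebra
  haveI t1 : IsScalarTower S₀ S B := IsScalarTower.of_algebraMap_eq fun _ => rfl
  haveI t2 : IsScalarTower S₀ T B := IsScalarTower.of_algebraMap_eq fun s => by
    apply Subtype.ext
    rw [hτ]
    change algebraMap S R (algebraMap S₀ S s) = algebraMap R₀ R (algebraMap S₀ R₀ s)
    rw [← IsScalarTower.algebraMap_apply, ← IsScalarTower.algebraMap_apply]
  haveI t3 : IsScalarTower k T B := IsScalarTower.of_algebraMap_eq fun c => by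
    apply Subtype.ext
    rw [hτ]
    change algebraMap k R c = algebraMap R₀ R (algebraMap k R₀ c)
    rw [← IsScalarTower.algebraMap_apply]
  have hTi : Function.Injective (algebraMap T B) := by
    intro a b hab
    apply Subtype.ext
    apply hR₀i
    exact congrArg Subtype.val hab
  have hTm : ∀ t : T, algebraMap T B t ∈ invariants k A B := fun t => by
    rw [hinvB, hτ]
    exact hR₀m _
  have hTs : ∀ b ∈ invariants k A B, ∃ t : T, algebraMap T B t = b := fun b hb => by
    rw [hinvB] at hb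
    obtain ⟨t, ht⟩ := hR₀s _ hb
    exact ⟨⟨t, (hTB t).2 (by rw [ht]; exact b.2)⟩, Subtype.ext ht⟩
  have hTr : (IsScalarTower.toAlgHom k T B).range = invariants k A B := by
    ext b
    exact ⟨fun ⟨t, ht⟩ => ht ▸ hTm t, fun hb => hTs b hb⟩
  -- the point of `B`
  let xB : B →ₐ[k] k := x.comp i
  let mB : Ideal B := m.comap (algebraMap B R)
  have hmB : mB = RingHom.ker xB.toRingHom := by
    ext b
    exact hmem _
  haveI hmBmax : mB.IsMaximal := by
    rw [hmB]
    exact RingHom.ker_isMaximal_of_surjective _ fun c => ⟨algebraMap k B c, xB.commutes c⟩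
  have hawB : Function.Bijective (Localization.awayMap (algebraMap B R) ⟨f, hfB⟩) := by
    refine bijective_awayMap _ _ (fun b hb => ⟨0, ?_⟩) fun r => ?_
    · rw [pow_zero, one_mul]
      exact Subtype.ext hb
    · obtain ⟨n, hn⟩ := hf r
      exact ⟨n, ⟨_, hn⟩, rfl⟩
  have hetB : Algebra.IsEtaleAt S mB := by
    have := het
    obtain ⟨r, hrm, hret⟩ := Algebra.exists_etale_of_isEtaleAt (R := S) m
    obtain ⟨n, hn⟩ := hf r
    let b : B := ⟨f, hfB⟩ * ⟨f ^ n * r, hn⟩
    have hbR : (B.val b : R) = f * (f ^ n * r) := rfl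
    have h1 : Function.Bijective (Localization.awayMap B.val.toRingHom b) :=
      Localization.awayMap_bijective_of_dvd _ (Dvd.intro _ rfl) hawB
    have h2 : Algebra.FormallyEtale S (Localization.Away (B.val b)) := by
      have h3 : (PrimeSpectrum.basicOpen (B.val b) : Set (PrimeSpectrum R)) ⊆
          Algebra.etaleLocus S R := by
        refine Set.Subset.trans ?_ (Algebra.basicOpen_subset_etaleLocus_iff (R := S) (f := r).2
          inferInstance)
        rw [hbR, PrimeSpectrum.basicOpen_mul, PrimeSpectrum.basicOpen_mul]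
        exact Set.inter_subset_right.trans Set.inter_subset_right
      exact Algebra.basicOpen_subset_etaleLocus_iff.1 h3
    have h4 := (formallyEtale_away_iff B.val b h1).2 h2
    have h5 := Algebra.basicOpen_subset_etaleLocus_iff.2 h4
    refine h5 (show (⟨mB, inferInstance⟩ : PrimeSpectrum B) ∈ _ from ?_)
    change ¬ (b ∈ mB)
    change ¬ ((f * (f ^ n * r) : R) ∈ m)
    rw [hmem, map_mul, map_mul, map_pow, hxf, one_pow, one_mul, one_mul]
    exact fun h => hrm ((hmem r).2 h)
  have hyB : IsClosedOrbit k A (xB.comp (IsScalarTower.toAlgHom k S B)) := hy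
  have hintS : (IsScalarTower.toAlgHom k S B).toRingHom.IsIntegral := by
    have : Algebra.IsIntegral S B := inferInstance
    exact this.isIntegral
  have hxB : IsClosedOrbit k A xB := isClosedOrbit_of_comp_of_finite hψ hintS hyB
  have hinjB : ∀ g : A →ₐ[k] k, actPt k g (xB.comp (IsScalarTower.toAlgHom k S B)) =
      xB.comp (IsScalarTower.toAlgHom k S B) → actPt k g xB = xB := by
    intro g hg
    rw [actPt_comp hi_equiv, hinj g hg]
  have hE := hF B T hψ hTi hTr xB hxB mB hmB hetB hinjB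
  obtain ⟨a, hxa, hea, ha1, ha2⟩ := finite_structure hG hψ hS₀i hS₀m hS₀s hTi hTm hTs xB mB hmB
    hetB hyB hinjB hE
  obtain ⟨f₀, hf₀⟩ := hR₀s f hfinv
  have hf₀T : f₀ ∈ T := by
    rw [hTB, hf₀]
    exact hfB
  obtain ⟨f₁, hf₁⟩ : ∃ f₁ : T, (f₁ : R₀) = f₀ := ⟨⟨f₀, hf₀T⟩, rfl⟩
  subst hf₁
  -- `h = a * (f₁ : R₀)`
  have haR : algebraMap R₀ R ((a : R₀) * (f₁ : R₀)) = ((algebraMap T B a : B) : R) * f := by
    rw [map_mul, hf₀, hτ]
  have hR₀T : ∀ r : R₀, ∃ n : ℕ, (f₁ : R₀) ^ n * r ∈ T := by
    intro r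
    obtain ⟨n, hn⟩ := hf (algebraMap R₀ R r)
    refine ⟨n, ?_⟩
    rw [hTB, map_mul, map_pow, hf₀]
    exact hn
  have hawT : Function.Bijective (Localization.awayMap T.val.toRingHom (a * f₁)) := by
    refine Localization.awayMap_bijective_of_dvd _ (Dvd.intro_left _ rfl)
      (bijective_awayMap (T.val.toRingHom) f₁ (fun b hb => ⟨0, ?_⟩) fun r => ?_)
    · rw [pow_zero, one_mul]
      exact Subtype.ext hb
    · obtain ⟨n, hn⟩ := hR₀T r
      exact ⟨n, ⟨_, hn⟩, rfl⟩
  have hcomp : ∀ z : S ⊗[S₀] T, Algebra.TensorProduct.productMap (IsScalarTower.toAlgHom S₀ S R)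
        (IsScalarTower.toAlgHom S₀ R₀ R) (Algebra.TensorProduct.map (AlgHom.id S₀ S) T.val z) =
      ((Algebra.TensorProduct.productMap (IsScalarTower.toAlgHom S₀ S B)
        (IsScalarTower.toAlgHom S₀ T B) z : B) : R) := by
    intro z
    induction z with
    | zero => simp
    | add y z hy hz => rw [map_add, map_add, map_add, hy, hz]; rfl
    | tmul s t =>
      rw [Algebra.TensorProduct.map_tmul, Algebra.TensorProduct.productMap_apply_tmul,
        Algebra.TensorProduct.productMap_apply_tmul]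
      rfl
  have hlift : ∀ z : S ⊗[S₀] R₀, ∃ (n : ℕ) (z' : S ⊗[S₀] T),
      Algebra.TensorProduct.map (AlgHom.id S₀ S) T.val z' = ((1 : S) ⊗ₜ[S₀] (f₁ : R₀)) ^ n * z := by
    intro z
    induction z with
    | zero => exact ⟨0, 0, by simp⟩
    | add y z hy hz =>
      obtain ⟨n, y', hy'⟩ := hy
      obtain ⟨l, z', hz'⟩ := hz
      refine ⟨n + l, (1 ⊗ₜ[S₀] f₁) ^ l * y' +
        (1 ⊗ₜ[S₀] f₁) ^ n * z', ?_⟩
      rw [map_add, map_mul, map_mul, map_pow, map_pow, hy', hz']
      have : Algebra.TensorProduct.map (AlgHom.id S₀ S) T.val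
        ((1 : S) ⊗ₜ[S₀] f₁) = 1 ⊗ₜ[S₀] (f₁ : R₀) := rfl
      rw [this]
      exact add_aux _ _ _ _ _
    | tmul s r =>
      obtain ⟨n, hn⟩ := hR₀T r
      refine ⟨n, s ⊗ₜ ⟨_, hn⟩, ?_⟩
      rw [Algebra.TensorProduct.map_tmul, Algebra.TensorProduct.tmul_pow, one_pow,
        Algebra.TensorProduct.tmul_mul_tmul, one_mul]
      rfl
  have hSN₀ : IsNoetherianRing S₀ := isNoetherianRing_of_invariants hG hS₀i hS₀m hS₀s
  have hTfin : Module.Finite S₀ T := finite_of_invariants hG hψ hS₀s hTi hTm hTs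
  haveI hTfp : Algebra.FinitePresentation S₀ T := Algebra.FinitePresentation.of_finiteType.1
    inferInstance
  refine ⟨(a : R₀) * (f₁ : R₀), ?_, ?_, fun z hz => ?_, fun r => ?_⟩
  · rw [haR, map_mul, hxf, mul_one]
    exact hxa
  · have h6 : Algebra.FormallyEtale S₀ (Localization.Away (a * f₁ : T)) := by
      have h3 : (PrimeSpectrum.basicOpen (a * f₁ : T) : Set (PrimeSpectrum T)) ⊆
          Algebra.etaleLocus S₀ T := by
        refine Set.Subset.trans ?_ (Algebra.basicOpen_subset_etaleLocus_iff (R := S₀) (f := a).2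
          hea)
        rw [PrimeSpectrum.basicOpen_mul]
        exact Set.inter_subset_left
      exact Algebra.basicOpen_subset_etaleLocus_iff.1 h3
    have h7 : Algebra.FinitePresentation T (Localization.Away (a * f₁ : T)) :=
      IsLocalization.Away.finitePresentation (a * f₁ : T)
    have h8 : Algebra.FinitePresentation S₀ (Localization.Away (a * f₁ : T)) :=
      Algebra.FinitePresentation.trans S₀ T _
    have h9 : Algebra.Etale S₀ (Localization.Away (a * f₁ : T)) := ⟨h6, h8⟩
    have key : ∀ y : R₀, y = T.val (a * f₁ : T) →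
        Algebra.Etale S₀ (Localization.Away y) := by
      rintro _ rfl
      exact etale_away T.val (a * f₁) hawT h9
    exact key _ rfl
  · obtain ⟨n, z', hz'⟩ := hlift z
    have h10 : Algebra.TensorProduct.productMap (IsScalarTower.toAlgHom S₀ S B)
        (IsScalarTower.toAlgHom S₀ T B) z' = 0 := by
      apply Subtype.ext
      rw [← hcomp, hz', map_mul, hz, mul_zero]
      rfl
    have h11 := ha1 z' h10
    have h12 : Algebra.TensorProduct.map (AlgHom.id S₀ S) T.val
        (((1 : S) ⊗ₜ[S₀] a) * z') = 0 := by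
      rw [h11, map_zero]
    have h13 : ((1 : S) ⊗ₜ[S₀] (a : R₀)) * (((1 : S) ⊗ₜ[S₀] (f₁ : R₀)) ^ n * z) = 0 := by
      rw [← hz', ← h12, map_mul]
      rfl
    refine ⟨n + 1, ?_⟩
    have h14 : ((1 : S) ⊗ₜ[S₀] ((a : R₀) * (f₁ : R₀))) = (1 ⊗ₜ (a : R₀)) * (1 ⊗ₜ (f₁ : R₀)) := by
      rw [Algebra.TensorProduct.tmul_mul_tmul, one_mul]
    rw [h14]
    exact pow_mul_eq_zero_aux h13
  · obtain ⟨n, hn⟩ := hf r
    obtain ⟨z, hz⟩ := ha2 ⟨_, hn⟩
    refine ⟨n + 1, ((1 : S) ⊗ₜ[S₀] (a : R₀)) ^ n * (1 ⊗ₜ[S₀] (f₁ : R₀)) *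
      Algebra.TensorProduct.map (AlgHom.id S₀ S) T.val z, ?_⟩
    rw [map_mul, hcomp, hz, map_mul, map_pow, Algebra.TensorProduct.productMap_apply_tmul,
      Algebra.TensorProduct.productMap_apply_tmul, map_one, one_mul, one_mul]
    have h15 : IsScalarTower.toAlgHom S₀ R₀ R (a : R₀) = ((algebraMap T B a : B) : R) := rfl
    have h16 : IsScalarTower.toAlgHom S₀ R₀ R (f₁ : R₀) = f := hf₀
    rw [h15, h16, haR]
    exact pow_aux _ _ _ _

end

end K798.Strong
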