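import Groth.Agent.GLin.K798.Strong

/-!
# The fundamental lemma: strongly étale neighbourhoods, conclusions

`closed_orbits`: over the open where `S ⊗[S₀] R₀ → R` is an isomorphism closed orbits map to closed orbits;
`main`: existence of strongly étale saturated neighbourhoods, from the finite case.
-/

set_option autoImplicit false
set_option linter.unusedSectionVars false
set_option linter.style.haveILetI false

universe u v w w'

open TensorProduct HopfRep GLin

namespace K798.Strong

open Groth.Agent.Books Groth.Agent.Books.ComodBasic Groth.Agent.Books.ComodHom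
open K765.Basic K765.Closed K765.SubAlg K798.Sep K798.EtIso K798.AwayIso K798.FinStr K798.ZMTpt
open K701.Orbit3

section

variable {k : Type u} {A : Type u} [Field k] [IsAlgClosed k] [CommRing A] [HopfAlgebra k A]
  [Algebra.FiniteType k A] [IsReduced A]
variable {S : Type u} [CommRing S] [Algebra k S] [Comod k A S] [IsCoactAlg k A S]
  [Algebra.FiniteType k S]
variable {R : Type u} [CommRing R] [Algebra k R] [Comod k A R] [IsCoactAlg k A R]
  [Algebra.FiniteType k R]
variable [Algebra S R] [IsScalarTower k S R]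
variable {S₀ : Type u} [CommRing S₀] [Algebra S₀ S]
variable {R₀ : Type u} [CommRing R₀] [Algebra R₀ R]
variable [Algebra S₀ R₀] [Algebra S₀ R] [IsScalarTower S₀ S R] [IsScalarTower S₀ R₀ R]

/-- Closed orbits map to closed orbits. -/
theorem closed_orbits
    (he : IsEquiv A (IsScalarTower.toAlgHom k S R))
    (hS₀m : ∀ s : S₀, algebraMap S₀ S s ∈ invariants k A S)
    (hR₀m : ∀ s : R₀, algebraMap R₀ R s ∈ invariants k A R)
    (h : R₀)
    (hb : Function.Bijective (Localization.awayMap
      (Algebra.TensorProduct.productMap (IsScalarTower.toAlgHom S₀ S R)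
        (IsScalarTower.toAlgHom S₀ R₀ R)).toRingHom ((1 : S) ⊗ₜ[S₀] h)))
    (x' : R →ₐ[k] k) (hxh : x' (algebraMap R₀ R h) ≠ 0) (hx' : IsClosedOrbit k A x') :
    IsClosedOrbit k A (x'.comp (IsScalarTower.toAlgHom k S R)) := by
  set φ := Algebra.TensorProduct.productMap (IsScalarTower.toAlgHom S₀ S R)
        (IsScalarTower.toAlgHom S₀ R₀ R) with hφ
  have hφt : ∀ s r, φ (s ⊗ₜ r) = algebraMap S R s * algebraMap R₀ R r := fun s r => by
    rw [hφ, Algebra.TensorProduct.productMap_apply_tmul]
    rfl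
  have hφh : φ (1 ⊗ₜ h) = algebraMap R₀ R h := by rw [hφt, map_one, one_mul]
  have hcl := (isClosedOrbit_iff_closedOrb x').1 hx'
  apply isClosedOrbit_of_closedOrb
  intro z hz
  set y := x'.comp (IsScalarTower.toAlgHom k S R) with hy
  have hyS : ∀ s : S, y s = x' (algebraMap S R s) := fun s => rfl
  -- `z` and `y` agree on the invariants
  have hzy : ∀ s : S₀, z (algebraMap S₀ S s) = y (algebraMap S₀ S s) := by
    intro s
    have h1 : orbitHom k A y (algebraMap S₀ S s - algebraMap k S (y (algebraMap S₀ S s))) = 0 := by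
      rw [map_sub, orbitHom_of_mem_invariants (hS₀m s), AlgHom.commutes, sub_self]
    have h2 := hz _ h1
    rw [map_sub, AlgHom.commutes, sub_eq_zero] at h2
    exact h2
  letI : Algebra S₀ k := (z.toRingHom.comp (algebraMap S₀ S)).toAlgebra
  let z₁ : S →ₐ[S₀] k := { z.toRingHom with commutes' := fun _ => rfl }
  let x₁ : R₀ →ₐ[S₀] k :=
    { x'.toRingHom.comp (algebraMap R₀ R) with
      commutes' := fun s => by
        change x' (algebraMap R₀ R (algebraMap S₀ R₀ s)) = z (algebraMap S₀ S s)
        rw [hzy, hyS, ← IsScalarTower.algebraMap_apply, ← IsScalarTower.algebraMap_apply] }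
  let zt : S ⊗[S₀] R₀ →ₐ[S₀] k := Algebra.TensorProduct.productMap z₁ x₁
  have hzt : ∀ s r, zt (s ⊗ₜ r) = z s * x' (algebraMap R₀ R r) := fun s r => by
    change Algebra.TensorProduct.productMap z₁ x₁ (s ⊗ₜ r) = _
    rw [Algebra.TensorProduct.productMap_apply_tmul]
    rfl
  obtain ⟨x₂, hx₂⟩ := exists_extension φ.toRingHom (1 ⊗ₜ h) hb zt.toRingHom (by
    change IsUnit (zt (1 ⊗ₜ h))
    rw [hzt, map_one, one_mul]
    exact (isUnit_iff_ne_zero).2 hxh)
  have hx₂' : ∀ c, x₂ (φ c) = zt c := hx₂
  let x₃ : R →ₐ[k] k :=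
    { x₂ with
      commutes' := fun c => by
        change x₂ (algebraMap k R c) = c
        have h3 : algebraMap k R c = φ (algebraMap k S c ⊗ₜ 1) := by
          rw [hφt, map_one, mul_one, ← IsScalarTower.algebraMap_apply]
        rw [h3, hx₂', hzt, map_one, map_one, mul_one, AlgHom.commutes]
        rfl }
  have hx₃ : ∀ r, x₃ r = x₂ r := fun _ => rfl
  -- the key comparison
  have key : ∀ c : S ⊗[S₀] R₀, ∃ s : S, orbitHom k A x' (φ c) = orbitHom k A y s ∧ zt c = z s := by
    intro c
    induction c with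
    | zero => exact ⟨0, by simp, by simp⟩
    | add a b ha hb =>
      obtain ⟨s, hs, hs'⟩ := ha
      obtain ⟨t, ht, ht'⟩ := hb
      exact ⟨s + t, by rw [map_add, map_add, map_add, hs, ht], by rw [map_add, map_add, hs', ht']⟩
    | tmul s r =>
      refine ⟨x' (algebraMap R₀ R r) • s, ?_, ?_⟩
      · rw [hφt, map_mul, map_smul, orbitHom_of_mem_invariants (hR₀m r), hy, orbitHom_comp he,
          AlgHom.comp_apply, Algebra.smul_def, mul_comm]
        rfl
      · rw [hzt, map_smul, smul_eq_mul, mul_comm]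
  have hcl3 : ∀ f ∈ RingHom.ker (orbitHom k A x'), x₃ f = 0 := by
    intro r hr
    obtain ⟨c, n, hc⟩ := (Localization.awayMap_surjective_iff).1 hb.2 r
    have hc' : φ c = φ (1 ⊗ₜ h) ^ n * r := hc
    obtain ⟨s, hs, hs'⟩ := key c
    have h4 : orbitHom k A y s = 0 := by
      have hr' : orbitHom k A x' r = 0 := hr
      rw [← hs, hc', map_mul, hr', mul_zero]
    have h5 : x₂ (φ c) = 0 := by
      rw [hx₂', hs']
      exact hz s h4
    rw [hc', map_mul, map_pow] at h5
    have h6 : x₂ (φ (1 ⊗ₜ h)) ≠ 0 := by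
      rw [hx₂', hzt, map_one, one_mul]
      exact hxh
    exact (mul_eq_zero.1 h5).resolve_left (pow_ne_zero n h6)
  obtain ⟨g, hg⟩ := hcl x₃ hcl3
  refine ⟨g, ?_⟩
  rw [actPt_comp he, ← hg]
  apply AlgHom.ext
  intro s
  change z s = x₂ (algebraMap S R s)
  have h7 : algebraMap S R s = φ (s ⊗ₜ 1) := by rw [hφt, map_one, mul_one]
  rw [h7, hx₂', hzt, map_one, map_one, mul_one]

end

end K798.Strong
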